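import Cfsg.Agent.Components.KInf.Basic
import Cfsg.Agent.Components.Functor.PCompl
import Cfsg.Agent.SolvStruct.PGroupBasics
import Cfsg.Agent.S0121

/-!
The K-infinity subgroups are normal in `p`-stable groups of characteristic `p`.
-/

set_option linter.style.haveILetI false
set_option linter.unusedSectionVars false

namespace Cfsg.Lib.KInf

open Subgroup
open scoped commutatorElement

universe u

variable {G : Type u} [Group G] [Finite G] {p : ℕ} [Fact p.Prime]

/-- translation of the abstract criterion to a Sylow subgroup of `G` -/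
theorem induced_normal (S : Sylow p G) (A : Subgroup G) [A.Normal] (hAT : A ≤ Cfsg.pCore p G)
    (hA2 : ⁅⁅A, A⁆, A⁆ = ⊥) (hTA : ⁅Cfsg.pCore p G, A⁆ ≤ zc A)
    (hA' : ∀ A' : Subgroup G, A' ≤ (S : Subgroup G) → A' ∈ Cfsg.classTwoSubgroups G →
      A ≤ normalizer (A' : Set G) → ⁅A, ⁅A', A'⁆⁆ = ⊥ → ⁅⁅zc A, A'⁆, A'⁆ = ⊥ → A' ≤ Cfsg.pCore p G)
    (hB : ∀ B : Subgroup G, B ≤ (S : Subgroup G) → B ∈ Cfsg.classTwoSubgroups G →
      A ≤ normalizer (B : Set G) →
      (∀ A' ∈ Cfsg.classTwoSubgroups G, A' ≤ A → B ≤ normalizer (A' : Set G) → ⁅B, ⁅A', A'⁆⁆ = ⊥ →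
        ⁅⁅zc B, A'⁆, A'⁆ = ⊥ → ⁅B, A'⁆ ≤ zc B) → B ≤ Cfsg.pCore p G) :
    (Cfsg.inducedFunctor Cfsg.kInfLower (S : Subgroup G)).Normal ∧
      (Cfsg.inducedFunctor Cfsg.kInfUpper (S : Subgroup G)).Normal := by
  set T := Cfsg.pCore p G
  have hTS : T ≤ (S : Subgroup G) :=
    Cfsg.Lib.Thompson.le_sylow_of_normal (Cfsg.Lib.Components.isPGroup_pCore p) S
  set f := (S : Subgroup G).subtype
  have hf : Function.Injective f := (S : Subgroup G).subtype_injective
  have hAS : (A.subgroupOf (S : Subgroup G)).map f = A := by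
    rw [subgroupOf_map_subtype, inf_eq_left.mpr (hAT.trans hTS)]
  have hTS' : (T.subgroupOf (S : Subgroup G)).map f = T := by
    rw [subgroupOf_map_subtype, inf_eq_left.mpr hTS]
  have key := terms_le (T.subgroupOf (S : Subgroup G)) (A.subgroupOf (S : Subgroup G))
    (by rw [← map_classTwo hf, hAS, mem_classTwo]; exact hA2)
    (by
      rw [← map_le_map_iff_of_injective hf, map_commutator, map_zc hf, hAS, hTS', commutator_comm]
      exact hTA)
    (fun A' h1 h2 h3 h4 => by
      rw [← map_le_map_iff_of_injective hf, hTS']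
      refine hA' _ (map_subtype_le A') ((map_classTwo hf).mpr h1) ?_ ?_ ?_
      · have := (map_normalizer_iff hf).mpr h2
        rwa [hAS] at this
      · rw [← hAS, ← map_commutator, ← map_commutator, h3, Subgroup.map_bot]
      · rw [← hAS, ← map_zc hf, ← map_commutator, ← map_commutator, h4, Subgroup.map_bot])
    (fun B h1 h2 h3 => by
      rw [← map_le_map_iff_of_injective hf, hTS']
      refine hB _ (map_subtype_le B) ((map_classTwo hf).mpr h1) ?_ ?_
      · have := (map_normalizer_iff hf).mpr h2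
        rwa [hAS] at this
      · intro A' hA'2 hA'A hBA' hc1 hc2
        have hA'S : (A'.subgroupOf (S : Subgroup G)).map f = A' := by
          rw [subgroupOf_map_subtype, inf_eq_left.mpr (hA'A.trans (hAT.trans hTS))]
        rw [← hA'S] at hA'2 hA'A hBA' hc1 hc2 ⊢
        rw [← hAS, map_le_map_iff_of_injective hf] at hA'A
        rw [← map_commutator, ← map_commutator, map_eq_bot_iff_of_injective _ hf] at hc1
        rw [← map_zc hf, ← map_commutator, ← map_commutator, map_eq_bot_iff_of_injective _ hf] at hc2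
        rw [← map_zc hf, ← map_commutator]
        exact map_mono (h3 _ ((map_classTwo hf).mp hA'2) hA'A ((map_normalizer_iff hf).mp hBA') hc1 hc2))
  obtain ⟨h1, h2⟩ := map_kInf_of_le (T.subgroupOf (S : Subgroup G)) key
  have hTp : IsPGroup p (T.subgroupOf (S : Subgroup G)) := S.2.to_subgroup _
  have hnorm : ∀ W : ∀ (Q : Type u) [Group Q], Subgroup Q, Cfsg.IsCharPFunctor.{u} p W →
      (W (T.subgroupOf (S : Subgroup G))).map (T.subgroupOf (S : Subgroup G)).subtype = W (S : Subgroup G) →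
      (Cfsg.inducedFunctor W (S : Subgroup G)).Normal := by
    intro W hW h
    have he : Cfsg.inducedFunctor W (S : Subgroup G) = Cfsg.inducedFunctor W T := by
      conv_rhs => rw [← hTS', ← Cfsg.Lib.Functor.map_induced hW hTp hf.injOn]
      show (W (S : Subgroup G)).map f = ((W (T.subgroupOf (S : Subgroup G))).map (T.subgroupOf (S : Subgroup G)).subtype).map f
      rw [h]
    rw [he]
    refine normalizer_eq_top_iff.mp (top_le_iff.mp ?_)
    exact le_trans (by rw [normalizer_eq_top]) (Cfsg.Lib.Functor.normalizer_le_normalizer_induced hW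
      (Cfsg.Lib.Components.isPGroup_pCore p))
  exact ⟨hnorm _ isCharPFunctor_lower h1, hnorm _ isCharPFunctor_upper h2⟩

/-- normalizer stability passes along injective homomorphisms -/
theorem normalizerPStable_of_injective {H : Type u} [Group H] [Finite H] (f : H →* G) (hf : Function.Injective f)
    (h : Cfsg.IsNormalizerPStable p G) : Cfsg.IsNormalizerPStable p H := by
  intro P hP g hg hquad
  set P' := P.map f with hP'
  have hg' : f g ∈ normalizer (P' : Set G) := le_normalizer_map f ⟨g, hg, rfl⟩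
  have hquad' : ⁅⁅P', zpowers (f g)⁆, zpowers (f g)⁆ = ⊥ := by
    rw [← MonoidHom.map_zpowers, hP', ← map_commutator, ← map_commutator, hquad, Subgroup.map_bot]
  have hm := h P' (hP.map _) (f g) hg' hquad'
  let ι : normalizer (P : Set H) →* normalizer (P' : Set G) :=
    { toFun := fun x => ⟨f x, le_normalizer_map f ⟨x, x.2, rfl⟩⟩
      map_one' := Subtype.ext (map_one f)
      map_mul' := fun x y => Subtype.ext (map_mul f _ _) }
  have hiff : ∀ x : normalizer (P : Set H),
      x ∈ (centralizer (P : Set H)).subgroupOf (normalizer (P : Set H)) ↔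
        ι x ∈ (centralizer (P' : Set G)).subgroupOf (normalizer (P' : Set G)) := by
    intro x
    simp only [mem_subgroupOf, mem_centralizer_iff]
    constructor
    · rintro hx _ ⟨y, hy, rfl⟩
      show f y * f x = f x * f y
      rw [← map_mul, hx y hy, map_mul]
    · intro hx y hy
      refine hf ?_
      rw [map_mul, map_mul]
      exact hx (f y) ⟨y, hy, rfl⟩
  let q := QuotientGroup.map _ _ ι (fun x hx => mem_comap.mpr ((hiff x).mp hx))
  have hq : Function.Injective q := by
    rw [injective_iff_map_eq_one]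
    intro z
    induction z using QuotientGroup.induction_on with
    | H x =>
      intro hx
      rw [QuotientGroup.map_mk, QuotientGroup.eq_one_iff] at hx
      rw [QuotientGroup.eq_one_iff]
      exact (hiff x).mpr hx
  exact Cfsg.Lib.Components.le_pCore ((Cfsg.Lib.Components.isPGroup_pCore p).comap_of_injective q hq) hm

/-- the elements inducing `O_p` on `U` -/
def pk (p : ℕ) (U : Subgroup G) [U.Normal] : Subgroup G :=
  (Cfsg.pCore p (G ⧸ centralizer (U : Set G))).comap (QuotientGroup.mk' _)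

instance pk_normal (U : Subgroup G) [U.Normal] : (pk p U).Normal :=
  Subgroup.Normal.comap inferInstance _

theorem pPart_mem_centralizer {U : Subgroup G} [U.Normal] {x y : G} (hx : x ∈ pk p U)
    (hy : y ∈ zpowers x) (hcop : (orderOf y).Coprime p) : y ∈ centralizer (U : Set G) := by
  have h1 : (QuotientGroup.mk y : G ⧸ centralizer (U : Set G)) ∈ Cfsg.pCore p _ := by
    obtain ⟨i, rfl⟩ := hy
    exact zpow_mem (show QuotientGroup.mk x ∈ Cfsg.pCore p _ from hx) i
  obtain ⟨j, hj⟩ := IsPGroup.iff_orderOf.mp (Cfsg.Lib.Components.isPGroup_pCore p) ⟨_, h1⟩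
  rw [Subgroup.orderOf_mk] at hj
  rw [← QuotientGroup.eq_one_iff]
  exact orderOf_eq_one_iff.mp (Nat.eq_one_of_dvd_coprimes (hcop.pow_right j)
    (orderOf_map_dvd (QuotientGroup.mk' _) y) hj.dvd)

theorem centralizer_le_pk (U : Subgroup G) [U.Normal] : centralizer (U : Set G) ≤ pk p U := fun x hx => by
  rw [pk, mem_comap, show QuotientGroup.mk' (centralizer (U : Set G)) x = 1 from (QuotientGroup.eq_one_iff x).mpr hx]
  exact one_mem _

/-- a `p'`-element stabilizing a series of a `p`-group centralizes it -/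
theorem centralizes_of_stabilizes {U V : Subgroup G} (hV : IsPGroup p V) {b : G}
    (hb : (orderOf b).Coprime p) (hbV : b ∈ centralizer (V : Set G))
    (hq : ∀ u ∈ U, b * u * b⁻¹ * u⁻¹ ∈ V) : b ∈ centralizer (U : Set G) := by
  rw [mem_centralizer_iff]
  intro x hx
  set w := b * x * b⁻¹ * x⁻¹ with hw
  have hwV := hq x hx
  have hbw : ∀ v ∈ V, b * v * b⁻¹ = v := fun v hv => by
    rw [← mem_centralizer_iff.mp hbV v hv, mul_inv_cancel_right]
  have hit : ∀ i : ℕ, b ^ i * x * (b ^ i)⁻¹ = w ^ i * x := by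
    intro i
    induction i with
    | zero => simp
    | succ i ihi =>
      calc b ^ (i + 1) * x * (b ^ (i + 1))⁻¹ = b * (b ^ i * x * (b ^ i)⁻¹) * b⁻¹ := by
            rw [pow_succ']; group
        _ = (b * w ^ i * b⁻¹) * (b * x * b⁻¹) := by rw [ihi]; group
        _ = w ^ i * (w * x) := by rw [hbw _ (pow_mem hwV i), hw]; group
        _ = _ := by rw [pow_succ]; exact (mul_assoc _ _ _).symm
  have h5 := hit (orderOf b)
  rw [pow_orderOf_eq_one, inv_one, mul_one, one_mul, eq_comm, mul_eq_right] at h5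
  obtain ⟨j, hj⟩ := IsPGroup.iff_orderOf.mp hV ⟨w, hwV⟩
  rw [Subgroup.orderOf_mk] at hj
  have hw1 : w = 1 := orderOf_eq_one_iff.mp (Nat.eq_one_of_dvd_coprimes (hb.pow_right j)
    (orderOf_dvd_of_pow_eq_one h5) hj.dvd)
  rw [hw, mul_inv_eq_one] at hw1
  calc x * b = b * x * b⁻¹ * b := by rw [hw1]
    _ = b * x := by group

/-- combine along a normal series -/
theorem pk_of_series {U V : Subgroup G} [U.Normal] [V.Normal] (hV : IsPGroup p V) {x : G}
    (hxV : x ∈ pk p V)
    (hxU : QuotientGroup.mk' V x ∈ @pk (G ⧸ V) _ p (U.map (QuotientGroup.mk' V))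
      (Subgroup.Normal.map inferInstance _ (QuotientGroup.mk'_surjective V))) :
    x ∈ pk p U := by
  set π := QuotientGroup.mk' V
  haveI : (U.map π).Normal := Subgroup.Normal.map inferInstance _ (QuotientGroup.mk'_surjective V)
  set K := pk p V ⊓ (pk p (U.map π)).comap π
  haveI : ((pk p (U.map π)).comap π).Normal := Subgroup.Normal.comap inferInstance π
  haveI : K.Normal := inferInstance
  set ρ := QuotientGroup.mk' (centralizer (U : Set G))
  haveI : (K.map ρ).Normal := Subgroup.Normal.map inferInstance ρ (QuotientGroup.mk'_surjective _)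
  refine Cfsg.Lib.Components.le_pCore (N := K.map ρ) ?_ (mem_map_of_mem ρ ⟨hxV, hxU⟩)
  rintro ⟨_, k, hk, rfl⟩
  obtain ⟨a, y, -, hy, hay, ⟨j, hj⟩, hcop⟩ := Cfsg.Lib.Transfer.exists_pPart p k
  have hy1 := pPart_mem_centralizer hk.1 hy hcop
  have hy2 := pPart_mem_centralizer (x := π k) hk.2 (MonoidHom.map_zpowers π k ▸ mem_map_of_mem π hy)
    (hcop.coprime_dvd_left (orderOf_map_dvd π y))
  have hyU : y ∈ centralizer (U : Set G) := centralizes_of_stabilizes hV hcop hy1 fun u hu => by
    rw [← QuotientGroup.eq_one_iff]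
    show π (y * u * y⁻¹ * u⁻¹) = 1
    rw [map_mul, map_mul, map_mul, map_inv, map_inv,
      ← mem_centralizer_iff.mp hy2 (π u) (mem_map_of_mem π hu), mul_inv_cancel_right, mul_inv_cancel]
  refine ⟨j, Subtype.ext ?_⟩
  show ρ k ^ p ^ j = 1
  rw [← hay, map_mul, show ρ y = 1 from (QuotientGroup.eq_one_iff y).mpr hyU, mul_one, ← map_pow, ← hj,
    pow_orderOf_eq_one, map_one]

theorem pk_le_pCore {A : Subgroup G} [A.Normal] (hA : centralizer (A : Set G) ≤ Cfsg.pCore p G) :
    pk p A ≤ Cfsg.pCore p G := by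
  refine Cfsg.Lib.Components.le_pCore ?_
  refine (Cfsg.Lib.Components.isPGroup_pCore p).comap_of_ker_isPGroup _ ?_
  rw [QuotientGroup.ker_mk']
  exact (Cfsg.Lib.Components.isPGroup_pCore p).to_le hA

/-- quadratic elements in a stable group -/
theorem mem_pk_of_quadratic (hst : Cfsg.IsNormalizerPStable p G) (P : Subgroup G) [P.Normal]
    (hP : IsPGroup p P) {g : G} (hg : IsPGroup p (zpowers g))
    (hquad : ⁅⁅P, zpowers g⁆, zpowers g⁆ = ⊥) : g ∈ pk p P :=
  Cfsg.Lib.ZJ.stable_of_normalizerPStable hst P hP g hg hquad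

/-- minimal invariant subgroups -/
def soc (H M : Subgroup G) : Subgroup G :=
  sSup {N | N ≤ M ∧ N ≠ ⊥ ∧ H ≤ normalizer (N : Set G) ∧
    ∀ L ≤ N, H ≤ normalizer (L : Set G) → L = ⊥ ∨ L = N}

theorem soc_le (H M : Subgroup G) : soc H M ≤ M := sSup_le fun _ h => h.1

theorem soc_ne_bot {H M : Subgroup G} (hM : M ≠ ⊥) (hH : H ≤ normalizer (M : Set G)) : soc H M ≠ ⊥ := by
  obtain ⟨N, ⟨hN1, hN2, hN3⟩, hmin⟩ := Set.exists_min_image
    {N : Subgroup G | N ≤ M ∧ N ≠ ⊥ ∧ H ≤ normalizer (N : Set G)} (fun N => Nat.card N) (Set.toFinite _)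
    ⟨M, le_rfl, hM, hH⟩
  intro h
  refine hN2 (le_bot_iff.mp (h ▸ le_sSup ⟨hN1, hN2, hN3, fun L hL hHL => ?_⟩))
  by_cases hL0 : L = ⊥
  · exact Or.inl hL0
  · exact Or.inr (eq_of_le_of_card_ge hL (hmin L ⟨hL.trans hN1, hL0, hHL⟩))

theorem le_normalizer_soc {H K M : Subgroup G} (hKH : K ≤ normalizer (H : Set G))
    (hKM : K ≤ normalizer (M : Set G)) : K ≤ normalizer (soc H M : Set G) := by
  have hle : ∀ k ∈ K, (soc H M).map (MulAut.conj k).toMonoidHom ≤ soc H M := by
    intro k hk
    rw [soc, sSup_eq_iSup, Subgroup.map_iSup]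
    refine iSup_le fun N => ?_
    rw [Subgroup.map_iSup]
    refine iSup_le fun hN => ?_
    obtain ⟨h1, h2, h3, h4⟩ := hN
    have hHk : H.map (MulAut.conj k).toMonoidHom = H := Cfsg.Lib.Transfer.map_conj_eq_self_iff.mpr (hKH hk)
    rw [← sSup_eq_iSup]
    refine le_sSup ⟨?_, ?_, ?_, ?_⟩
    · exact (map_mono h1).trans (Cfsg.Lib.Transfer.map_conj_eq_self_iff.mpr (hKM hk)).le
    · exact fun h => h2 ((map_eq_bot_iff_of_injective _ (MulAut.conj k).injective).mp h)
    · conv_lhs => rw [← hHk]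
      exact (map_mono h3).trans (le_normalizer_map _)
    · intro L hL hHL
      have hk' : H.map (MulAut.conj k⁻¹).toMonoidHom = H :=
        Cfsg.Lib.Transfer.map_conj_eq_self_iff.mpr (inv_mem (hKH hk))
      have hback : (L.map (MulAut.conj k⁻¹).toMonoidHom).map (MulAut.conj k).toMonoidHom = L := by
        rw [map_map]
        convert Subgroup.map_id L
        ext z; simp [mul_assoc]
      rcases h4 (L.map (MulAut.conj k⁻¹).toMonoidHom) (by
          rintro _ ⟨z, hz, rfl⟩
          obtain ⟨w, hw, rfl⟩ := hL hz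
          simpa [mul_assoc] using hw)
        (by conv_lhs => rw [← hk']
            exact (map_mono hHL).trans (le_normalizer_map _)) with h | h
      · left; rw [← hback, h, Subgroup.map_bot]
      · right; rw [← hback, h]
  intro k hk
  rw [← Cfsg.Lib.Transfer.map_conj_eq_self_iff]
  exact eq_of_le_of_card_ge (hle k hk) (Cfsg.Lib.Transfer.card_map_conj _ _).ge

/-- Clifford: a minimal normal subgroup is generated by minimal invariant subgroups of a subnormal subgroup -/
theorem soc_eq {W N K : Subgroup G} [W.Normal] [K.Normal] [N.Normal] (hW : W ≠ ⊥)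
    (hmin : ∀ L : Subgroup G, L.Normal → L ≤ W → L = ⊥ ∨ L = W) (hK : IsPGroup p (K.map (QuotientGroup.mk' N))) :
    ∀ H : Subgroup G, N ≤ H → H ≤ K → soc H W = W := by
  intro H
  induction hn : Nat.card K - Nat.card H using Nat.strong_induction_on generalizing H with
  | _ n ih =>
  intro hNH hHK
  rcases eq_or_lt_of_le hHK with rfl | hlt
  · have hn : (soc H W).Normal := normalizer_eq_top_iff.mp (top_le_iff.mp
      (le_normalizer_soc (K := ⊤) le_normalizer_of_normal le_normalizer_of_normal))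
    exact (hmin _ hn (soc_le H W)).resolve_left (soc_ne_bot hW le_normalizer_of_normal)
  set π := QuotientGroup.mk' N
  have hker : π.ker = N := QuotientGroup.ker_mk' N
  have hHc : (H.map π).comap π = H := comap_map_eq_self (hker.le.trans hNH)
  have hKc : (K.map π).comap π = K := comap_map_eq_self (hker.le.trans (hNH.trans hHK))
  have hlt' : H.map π < K.map π := lt_of_le_of_ne (map_mono hHK) fun h => hlt.ne (by rw [← hHc, h, hKc])
  have hgrow := Cfsg.Lib.Fusion.lt_inf_normalizer hK hlt' le_rfl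
  set H' := (K.map π ⊓ normalizer (H.map π : Set (G ⧸ N))).comap π
  have hHH' : H < H' := by
    refine lt_of_le_of_ne (hHc.ge.trans (comap_mono hgrow.le)) fun h => hgrow.ne ?_
    conv_lhs => rw [h]
    exact map_comap_eq_self_of_surjective (QuotientGroup.mk'_surjective N) _
  have hH'K : H' ≤ K := (comap_mono inf_le_left).trans hKc.le
  have hH'N : H' ≤ normalizer (H : Set G) := by
    refine (comap_mono inf_le_right).trans ?_
    rw [comap_normalizer_eq_of_surjective _ (QuotientGroup.mk'_surjective N), hHc]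
  have hcard : Nat.card H < Nat.card H' :=
    lt_of_le_of_ne (card_le_of_le hHH'.le) fun h => hHH'.ne (eq_of_le_of_card_ge hHH'.le h.ge)
  have hcardK : Nat.card H' ≤ Nat.card K := card_le_of_le hH'K
  have hsoc := ih _ (by omega) H' rfl (hNH.trans hHH'.le) hH'K
  refine le_antisymm (soc_le H W) ?_
  refine le_of_eq_of_le hsoc.symm (sSup_le fun M hM => ?_)
  obtain ⟨h1, h2, h3, h4⟩ := hM
  have hne : soc H M ≠ ⊥ := soc_ne_bot h2 (hHH'.le.trans h3)
  rw [← (h4 _ (soc_le H M) (le_normalizer_soc hH'N h3)).resolve_left hne]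
  exact sSup_le_sSup fun L hL => ⟨hL.1.trans h1, hL.2⟩

/-- an element acting quadratically on a minimal invariant subgroup centralizes it -/
theorem centralizes_of_minimal (hst : Cfsg.IsNormalizerPStable p G) {H M : Subgroup G} (hM : IsPGroup p M)
    (hHM : H ≤ normalizer (M : Set G)) (hmin : ∀ L ≤ M, H ≤ normalizer (L : Set G) → L = ⊥ ∨ L = M)
    {b : G} (hbH : b ∈ H) (hb : IsPGroup p (zpowers b)) (hquad : ⁅⁅M, zpowers b⁆, zpowers b⁆ = ⊥) :
    b ∈ centralizer (M : Set G) := by
  set Y := normalizer (M : Set G)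
  haveI : (M.subgroupOf Y).Normal := normal_in_normalizer
  have hMY : (M.subgroupOf Y).map Y.subtype = M := by
    rw [subgroupOf_map_subtype, inf_eq_left.mpr le_normalizer]
  have hmem := mem_pk_of_quadratic (normalizerPStable_of_injective Y.subtype Y.subtype_injective hst)
    (M.subgroupOf Y) hM.comap_subtype (g := ⟨b, hHM hbH⟩) (by
      have := hb.comap_subtype (K := Y)
      refine this.to_le ?_
      rintro _ ⟨i, rfl⟩
      exact ⟨i, rfl⟩) ((map_eq_bot_iff_of_injective _ Y.subtype_injective).mp (by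
        rw [map_commutator, map_commutator, MonoidHom.map_zpowers, hMY]; exact hquad))
  rw [pk, mem_comap, Cfsg.Lib.Functor.pCore_eq_bot_of_minimal (M.subgroupOf Y) hM.comap_subtype
    (fun L hL hLM => ?_), mem_bot, QuotientGroup.mk'_apply, QuotientGroup.eq_one_iff] at hmem
  · exact mem_centralizer_iff.mpr fun z hz =>
      congrArg Subtype.val (mem_centralizer_iff.mp hmem ⟨z, le_normalizer hz⟩ hz)
  · rcases hmin (L.map Y.subtype) (hMY ▸ map_mono hLM) (fun x hx =>
        le_normalizer_map Y.subtype ⟨⟨x, hHM hx⟩, by rw [normalizer_eq_top]; exact mem_top _, rfl⟩) with h | h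
    · exact Or.inl ((map_eq_bot_iff_of_injective _ Y.subtype_injective).mp h)
    · exact Or.inr (map_injective Y.subtype_injective (h.trans hMY.symm))

/-- one chief step -/
theorem chief_step (hst : ∀ (N : Subgroup G) [N.Normal], Cfsg.IsNormalizerPStable p (G ⧸ N))
    {A : Subgroup G} [A.Normal] (hAp : IsPGroup p A) (hA2 : ⁅⁅A, A⁆, A⁆ = ⊥)
    {B : Subgroup G} (hBp : IsPGroup p B) (hB2 : B ∈ Cfsg.classTwoSubgroups G)
    (hAB : A ≤ normalizer (B : Set G)) (hBz : ⁅zc B, A⁆ ≤ zc A)
    (htest : ∀ A' ∈ Cfsg.classTwoSubgroups G, A' ≤ A → B ≤ normalizer (A' : Set G) → ⁅B, ⁅A', A'⁆⁆ = ⊥ →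
        ⁅⁅zc B, A'⁆, A'⁆ = ⊥ → ⁅B, A'⁆ ≤ zc B)
    {U V : Subgroup G} [U.Normal] [V.Normal] (hZV : zc A ≤ V) (hVU : V < U) (hUA : U ≤ A)
    (hchief : ∀ N : Subgroup G, N.Normal → V ≤ N → N ≤ U → N = V ∨ N = U) (hBV : B ≤ pk p V) :
    ∀ b ∈ B, ∀ u ∈ U, b * u * b⁻¹ * u⁻¹ ∈ V := by
  set N₀ := centralizer (V : Set G)
  haveI : N₀.Normal := normal_centralizer
  set U₀ := ⁅U, N₀⁆
  haveI : U₀.Normal := commutator_normal U N₀
  have hAA : ⁅A, A⁆ ≤ zc A :=
    le_inf (commutator_le_self A) ((commutator_eq_bot_iff_le_centralizer).mp hA2)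
  intro b hb
  have hbp : IsPGroup p (zpowers b) := hBp.to_le (zpowers_le.mpr hb)
  by_cases hU₀ : U₀ ≤ V
  · -- `N₀` is trivial on `U/V`
    set π := QuotientGroup.mk' V
    have hπ : Function.Surjective π := QuotientGroup.mk'_surjective V
    haveI hUπ : (U.map π).Normal := Subgroup.Normal.map inferInstance π hπ
    set C := centralizer (U.map π : Set (G ⧸ V))
    let θ : G →* (G ⧸ V) ⧸ C := (QuotientGroup.mk' C).comp π
    have hθ : Function.Surjective θ := (QuotientGroup.mk'_surjective C).comp hπ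
    have hN₀θ : ∀ x ∈ N₀, θ x = 1 := fun x hx => by
      refine (QuotientGroup.eq_one_iff _).mpr (mem_centralizer_iff.mpr ?_)
      rintro _ ⟨u, hu, rfl⟩
      have h1 : π ⁅u, x⁆ = 1 := (QuotientGroup.eq_one_iff _).mpr (hU₀ (commutator_mem_commutator hu hx))
      rw [map_commutatorElement, commutatorElement_eq_one_iff_mul_comm] at h1
      exact h1
    haveI : ((pk p V).map θ).Normal := Subgroup.Normal.map inferInstance θ hθ
    have hp : IsPGroup p ((pk p V).map θ) := by
      rintro ⟨_, k, hk, rfl⟩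
      obtain ⟨a, y, -, hy, hay, ⟨j, hj⟩, hcop⟩ := Cfsg.Lib.Transfer.exists_pPart p k
      refine ⟨j, Subtype.ext ?_⟩
      show θ k ^ p ^ j = 1
      rw [← hay, map_mul, hN₀θ y (pPart_mem_centralizer hk hy hcop), mul_one, ← map_pow, ← hj,
        pow_orderOf_eq_one, map_one]
    have hle := Cfsg.Lib.Components.le_pCore hp
    rw [Cfsg.Lib.Functor.pCore_eq_bot_of_minimal (U.map π) ((hAp.to_le hUA).map π) (fun L hL hLU => ?_)] at hle
    · intro u hu
      have h1 := mem_centralizer_iff.mp ((QuotientGroup.eq_one_iff _).mp (mem_bot.mp (hle (mem_map_of_mem θ (hBV hb)))))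
        (π u) (mem_map_of_mem π hu)
      rw [← QuotientGroup.eq_one_iff]
      show π (b * u * b⁻¹ * u⁻¹) = 1
      rw [map_mul, map_mul, map_mul, map_inv, map_inv, ← h1, mul_inv_cancel_right, mul_inv_cancel]
    · rcases hchief (L.comap π) (hL.comap π) ((QuotientGroup.ker_mk' V).ge.trans (ker_le_comap π L)) (by
        refine (comap_mono hLU).trans ?_
        rw [comap_map_eq, QuotientGroup.ker_mk', sup_eq_left.mpr hVU.le]) with h | h
      · left; rw [← map_comap_eq_self_of_surjective hπ L, h, QuotientGroup.map_mk'_self]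
      · right; rw [← map_comap_eq_self_of_surjective hπ L, h]
  -- reduce to `U₁ = [U, N₀] Z(A)`
  haveI : (zc A).Normal := inferInstanceAs (A ⊓ centralizer (A : Set G)).Normal
  set U₁ := U₀ ⊔ zc A
  haveI : U₁.Normal := inferInstance
  have hU₁U : U₁ ≤ U := sup_le (commutator_le_left U N₀) (hZV.trans hVU.le)
  have hU₁A : U₁ ≤ A := hU₁U.trans hUA
  have hU : U₁ ⊔ V = U := (hchief _ inferInstance le_sup_right (sup_le hU₁U hVU.le)).resolve_left
    fun h => hU₀ (le_trans (le_trans le_sup_left le_sup_left) h.le)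
  have hU₁V : ⁅U₁, V⁆ = ⊥ := by
    have h1 : ⁅U₀, V⁆ = ⊥ := commutator_commutator_eq_bot_of_rotate
      (by rw [show ⁅N₀, V⁆ = ⊥ from commutator_eq_bot_iff_le_centralizer.mpr le_rfl, commutator_bot_left])
      (by
        rw [commutator_eq_bot_iff_le_centralizer]
        intro x hx
        have hx' : x ∈ zc A := hAA (commutator_mono (hVU.le.trans hUA) hUA hx)
        exact mem_centralizer_iff.mpr fun n hn => ((mem_centralizer_iff.mp hn x (hZV hx')).symm))
    rw [commutator_eq_bot_iff_le_centralizer] at h1 ⊢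
    refine sup_le h1 fun z hz => mem_centralizer_iff.mpr fun v hv => ?_
    exact mem_centralizer_iff.mp hz.2 v ((hVU.le.trans hUA) hv)
  set V₁ := U₁ ⊓ V
  haveI : V₁.Normal := inferInstance
  have hZV₁ : zc A ≤ V₁ := le_inf le_sup_right hZV
  have hcen : ∀ u ∈ U₁, ∀ v ∈ V₁, u * v = v * u := fun u hu v hv =>
    (mem_centralizer_iff.mp ((commutator_eq_bot_iff_le_centralizer.mp hU₁V) hu) v hv.2).symm
  set π := QuotientGroup.mk' V₁ with hπdef
  have hπ : Function.Surjective π := QuotientGroup.mk'_surjective V₁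
  have hker : π.ker = V₁ := QuotientGroup.ker_mk' V₁
  haveI hWn : (U₁.map π).Normal := Subgroup.Normal.map inferInstance π hπ
  set W := U₁.map π
  have hmin : ∀ L : Subgroup (G ⧸ V₁), L.Normal → L ≤ W → L = ⊥ ∨ L = W := by
    intro L hL hLW
    set N := L.comap π
    haveI : N.Normal := hL.comap π
    have hNU : N ≤ U₁ := (comap_mono hLW).trans (by rw [comap_map_eq, hker, sup_eq_left.mpr inf_le_left])
    have hVN : V₁ ≤ N := hker.ge.trans (ker_le_comap π L)
    rcases hchief (N ⊔ V) inferInstance le_sup_right (sup_le (hNU.trans hU₁U) hVU.le) with h | h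
    · left
      rw [← map_comap_eq_self_of_surjective hπ L, Subgroup.map_eq_bot_iff, hker]
      exact le_inf hNU (le_sup_left.trans h.le)
    · right
      rw [← map_comap_eq_self_of_surjective hπ L]
      refine congrArg (Subgroup.map π) (le_antisymm hNU fun u hu => ?_)
      obtain ⟨n, hn, v, hv, rfl⟩ := mem_sup_of_normal_right.mp (h.ge (hU₁U hu))
      have hv' : v ∈ U₁ := by
        have := mul_mem (inv_mem (hNU hn)) hu
        rwa [inv_mul_cancel_left] at this
      exact mul_mem hn (hVN ⟨hv', hv⟩)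
  have hW : W ≠ ⊥ := fun h => by
    rw [Subgroup.map_eq_bot_iff, hker] at h
    exact hU₀ (le_sup_left.trans (h.trans inf_le_right))
  have hbil : ∀ u u' w : G, u ∈ A → u' ∈ A → w ∈ A → ⁅u * u', w⁆ = ⁅u', w⁆ * ⁅u, w⁆ := by
    intro u u' w hu hu' hw
    have h1 : u * ⁅u', w⁆ = ⁅u', w⁆ * u :=
      mem_centralizer_iff.mp (hAA (commutator_mem_commutator hu' hw)).2 u hu
    calc ⁅u * u', w⁆ = u * ⁅u', w⁆ * u⁻¹ * ⁅u, w⁆ := by simp only [commutatorElement_def]; group
      _ = _ := by rw [h1, mul_inv_cancel_right]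
  have hfix : ⁅B, ⁅U₁, U₁⁆⁆ = ⊥ := by
    rw [commutator_eq_bot_iff_le_centralizer]
    intro c hc
    have hcp : IsPGroup p (zpowers c) := hBp.to_le (zpowers_le.mpr hc)
    set H := N₀ ⊔ zpowers c
    -- the radical
    let R : Subgroup G :=
      { carrier := {u | u ∈ U₁ ∧ ∀ w ∈ U₁, Commute c ⁅u, w⁆}
        one_mem' := ⟨one_mem _, fun w _ => by simp [Commute, SemiconjBy]⟩
        mul_mem' := fun {u u'} hu hu' => ⟨mul_mem hu.1 hu'.1, fun w hw => by
          rw [hbil u u' w (hU₁A hu.1) (hU₁A hu'.1) (hU₁A hw)]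
          exact (hu'.2 w hw).mul_right (hu.2 w hw)⟩
        inv_mem' := fun {u} hu => ⟨inv_mem hu.1, fun w hw => by
          have h1 := hbil u⁻¹ u w (inv_mem (hU₁A hu.1)) (hU₁A hu.1) (hU₁A hw)
          rw [inv_mul_cancel, commutatorElement_one_left] at h1
          rw [show ⁅u⁻¹, w⁆ = ⁅u, w⁆⁻¹ from eq_inv_of_mul_eq_one_right h1.symm]
          exact (hu.2 w hw).inv_right⟩ }
    have hRU : R ≤ U₁ := fun u hu => hu.1
    have hVR : V₁ ≤ R := fun v hv => ⟨hv.1, fun w hw => by
      rw [commutatorElement_eq_one_iff_mul_comm.mpr (hcen w hw v hv).symm]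
      exact Commute.one_right c⟩
    have hHR : H ≤ normalizer (R : Set G) := by
      have hgen : ∀ n : G, (∀ u ∈ U₁, ∀ w ∈ U₁, Commute c ⁅u, w⁆ → Commute c (n * ⁅u, w⁆ * n⁻¹)) →
          ∀ u ∈ R, n * u * n⁻¹ ∈ R := by
        intro n hn u hu
        refine ⟨Normal.conj_mem inferInstance u hu.1 n, fun w hw => ?_⟩
        have hw' : n⁻¹ * w * n ∈ U₁ := by simpa using Normal.conj_mem inferInstance w hw n⁻¹
        have := hn u hu.1 _ hw' (hu.2 _ hw')
        convert this using 1
        simp only [commutatorElement_def]; group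
      refine sup_le (fun n hn => ?_) (zpowers_le.mpr ?_)
      · have hN : ∀ n ∈ N₀, ∀ u ∈ R, n * u * n⁻¹ ∈ R := fun n hn => hgen n fun u hu w hw h => by
          have hz : ⁅u, w⁆ ∈ V := hZV (hAA (commutator_mem_commutator (hU₁A hu) (hU₁A hw)))
          rwa [← mem_centralizer_iff.mp hn _ hz, mul_inv_cancel_right]
        exact mem_normalizer_iff.mpr fun x => ⟨hN n hn x, fun hx => by
          simpa [mul_assoc] using hN n⁻¹ (inv_mem hn) _ hx⟩
      · have h1 : ∀ i : ℤ, ∀ u ∈ R, c ^ i * u * (c ^ i)⁻¹ ∈ R := fun i => hgen _ fun u hu w hw h => by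
          rwa [(h.zpow_left i).eq, mul_inv_cancel_right]
        exact mem_normalizer_iff.mpr fun x => ⟨fun hx => by simpa using h1 1 x hx, fun hx => by
          have h2 := h1 (-1) _ hx
          simpa [mul_assoc] using h2⟩
    have hquadR : ∀ u ∈ U₁, ⁅c, ⁅c, u⁆⁆ ∈ R := by
      intro u hu
      have h1 : ⁅c, u⁆ ∈ B := by
        rw [commutatorElement_def, mul_assoc, mul_assoc]
        exact mul_mem hc (by
          have := (mem_normalizer_iff.mp (hAB (hU₁A hu)) _).mp (inv_mem hc)
          rwa [mul_assoc] at this)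
      have h2 : ⁅c, ⁅c, u⁆⁆ ∈ zc B :=
        ⟨commutator_le_self B (commutator_mem_commutator hc h1),
          hB2 (commutator_mem_commutator hc h1)⟩
      refine ⟨?_, fun w hw => ?_⟩
      · exact commutator_le_right (zpowers c) U₁ (commutator_mem_commutator (mem_zpowers c)
          (commutator_le_right (zpowers c) U₁ (commutator_mem_commutator (mem_zpowers c) hu)))
      · have hwN : w ∈ normalizer (zc B : Set G) :=
          (hAB.trans (Cfsg.Lib.Thompson.normalizer_le_normalizer_center B)) (hU₁A hw)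
        have h3 : ⁅⁅c, ⁅c, u⁆⁆, w⁆ ∈ zc B := by
          rw [commutatorElement_def, mul_assoc, mul_assoc]
          refine mul_mem h2 ?_
          have := (mem_normalizer_iff.mp hwN _).mp (inv_mem h2)
          rwa [mul_assoc] at this
        exact mem_centralizer_iff.mp h3.2 c hc
    -- decomposition
    have hpk : IsPGroup p (((pk p V).map π).map (QuotientGroup.mk' ((N₀ ⊔ V₁).map π))) := by
      haveI : ((N₀ ⊔ V₁).map π).Normal := Subgroup.Normal.map inferInstance π hπ
      rintro ⟨_, _, ⟨k, hk, rfl⟩, rfl⟩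
      obtain ⟨a, y, -, hy, hay, ⟨j, hj⟩, hcop⟩ := Cfsg.Lib.Transfer.exists_pPart p k
      refine ⟨j, Subtype.ext ?_⟩
      show QuotientGroup.mk' _ (π k) ^ p ^ j = 1
      rw [← hay, map_mul π, map_mul, show QuotientGroup.mk' ((N₀ ⊔ V₁).map π) (π y) = 1 from
        (QuotientGroup.eq_one_iff _).mpr (mem_map_of_mem π (mem_sup_left (pPart_mem_centralizer hk hy hcop))),
        mul_one, ← map_pow, ← map_pow, ← hj, pow_orderOf_eq_one, map_one, map_one]
    haveI : ((pk p V).map π).Normal := Subgroup.Normal.map inferInstance π hπ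
    haveI : ((N₀ ⊔ V₁).map π).Normal := Subgroup.Normal.map inferInstance π hπ
    have hsoc := soc_eq (W := W) (N := (N₀ ⊔ V₁).map π) (K := (pk p V).map π) hW hmin hpk
      ((H ⊔ V₁).map π) (map_mono (sup_le_sup_right le_sup_left V₁))
      (map_mono (sup_le (sup_le (centralizer_le_pk V) (zpowers_le.mpr (hBV hc)))
        (fun v hv => centralizer_le_pk V ((commutator_eq_bot_iff_le_centralizer.mp hU₁V) hv.1))))
    let F : Subgroup G := U₁ ⊓ (centralizer ({π c} : Set (G ⧸ V₁))).comap π
    have hsplit : U₁ ≤ R ⊔ F := by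
      have hle : W ≤ R.map π ⊔ F.map π := by
        refine hsoc.symm.le.trans (sSup_le fun M hM => ?_)
        obtain ⟨hMW, hM0, hHM, hMmin⟩ := hM
        have hMp : IsPGroup p M := ((hAp.to_le hU₁A).map π).to_le hMW
        have hcH : π c ∈ (H ⊔ V₁).map π := mem_map_of_mem π (mem_sup_left (mem_sup_right (mem_zpowers c)))
        by_cases hquad : ∀ m ∈ M, ⁅π c, ⁅π c, m⁆⁆ = 1
        · refine le_sup_of_le_right ?_
          have h0 : π c ∈ centralizer (M : Set (G ⧸ V₁)) := by
            refine centralizes_of_minimal (hst V₁) hMp hHM hMmin hcH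
              (by rw [← MonoidHom.map_zpowers]; exact hcp.map π) ?_
            have hMn : zpowers (π c) ≤ normalizer (M : Set (G ⧸ V₁)) := zpowers_le.mpr (hHM hcH)
            have hcomm : ∀ m ∈ M, Commute (π c) ⁅π c, m⁆ := fun m hm =>
              commutatorElement_eq_one_iff_mul_comm.mp (hquad m hm)
            rw [commutator_eq_bot_iff_le_centralizer, commutator_le]
            rintro m hm _ ⟨i, rfl⟩
            refine mem_centralizer_iff.mpr ?_
            rintro _ ⟨j, rfl⟩
            refine Commute.zpow_left ?_ j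
            have hit : ∀ i : ℤ, Commute (π c) ⁅π c ^ i, m⁆ := by
              intro i
              induction i with
              | zero => simp [Commute, SemiconjBy]
              | succ i ihi =>
                rw [zpow_add_one, show ⁅π c ^ (i : ℤ) * π c, m⁆ =
                  π c ^ (i : ℤ) * ⁅π c, m⁆ * (π c ^ (i : ℤ))⁻¹ * ⁅π c ^ (i : ℤ), m⁆ by
                    simp only [commutatorElement_def]; group, ((hcomm m hm).zpow_left _).eq,
                  mul_inv_cancel_right]
                exact (hcomm m hm).mul_right ihi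
              | pred i ihi =>
                have h5 : ⁅π c ^ (-(i : ℤ)), m⁆ = π c ^ (-(i : ℤ) - 1) * ⁅π c, m⁆ * (π c ^ (-(i : ℤ) - 1))⁻¹ *
                    ⁅π c ^ (-(i : ℤ) - 1), m⁆ := by
                  simp only [commutatorElement_def]; group
                rw [((hcomm m hm).zpow_left _).eq, mul_inv_cancel_right] at h5
                rw [show ⁅π c ^ (-(i : ℤ) - 1), m⁆ = ⁅π c, m⁆⁻¹ * ⁅π c ^ (-(i : ℤ)), m⁆ by rw [h5]; group]
                exact (hcomm m hm).inv_right.mul_right ihi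
            rw [← commutatorElement_inv]
            exact (hit i).inv_right
          intro m hm
          obtain ⟨u, hu, rfl⟩ := hMW hm
          exact mem_map_of_mem π ⟨hu, mem_centralizer_singleton_iff.mpr (mem_centralizer_iff.mp h0 _ hm)⟩
        · push Not at hquad
          obtain ⟨m, hm, hne⟩ := hquad
          obtain ⟨u, hu, rfl⟩ := hMW hm
          refine le_sup_of_le_left ?_
          have hx1 : ⁅π c, ⁅π c, π u⁆⁆ ∈ M := by
            have hk : ∀ y ∈ M, ⁅π c, y⁆ ∈ M := fun y hy => by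
              rw [commutatorElement_def]
              exact mul_mem ((mem_normalizer_iff.mp (hHM hcH) y).mp hy) (inv_mem hy)
            exact hk _ (hk _ hm)
          have hx2 : ⁅π c, ⁅π c, π u⁆⁆ ∈ R.map π := by
            rw [← map_commutatorElement, ← map_commutatorElement]
            exact mem_map_of_mem π (hquadR u hu)
          have hHR' : (H ⊔ V₁).map π ≤ normalizer (R.map π : Set (G ⧸ V₁)) :=
            (map_mono (sup_le hHR (hVR.trans le_normalizer))).trans (le_normalizer_map π)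
          refine inf_eq_left.mp ((hMmin (M ⊓ R.map π) inf_le_left
            (Cfsg.Lib.Coprime.le_normalizer_inf hHM hHR')).resolve_left fun h => hne ?_)
          exact mem_bot.mp (h ▸ ⟨hx1, hx2⟩)
      intro u hu
      have h1 := hle (mem_map_of_mem π hu)
      rw [← Subgroup.map_sup] at h1
      have h2 := mem_comap.mpr h1
      rw [comap_map_eq, hker, sup_eq_left.mpr (hVR.trans le_sup_left)] at h2
      exact h2
    have hFF : ∀ u ∈ F, ∀ w ∈ F, Commute c ⁅u, w⁆ := by
      intro u hu w hw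
      have hcv : ∀ x ∈ F, ∃ v ∈ V₁, c * x * c⁻¹ = v * x := fun x hx => by
        have h0 := mem_centralizer_singleton_iff.mp (mem_comap.mp hx.2)
        refine ⟨c * x * c⁻¹ * x⁻¹, ?_, by group⟩
        rw [← QuotientGroup.eq_one_iff]
        show π (c * x * c⁻¹ * x⁻¹) = 1
        rw [map_mul, map_mul, map_mul, map_inv, map_inv, ← h0, mul_inv_cancel_right, mul_inv_cancel]
      obtain ⟨v, hv, hvu⟩ := hcv u hu
      obtain ⟨v', hv', hvw⟩ := hcv w hw
      have h1 : c * ⁅u, w⁆ * c⁻¹ = ⁅v * u, v' * w⁆ := by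
        rw [← hvu, ← hvw]; simp only [commutatorElement_def]; group
      have c1 : Commute v u := (hcen u hu.1 v hv).symm
      have c2 : Commute v w := (hcen w hw.1 v hv).symm
      have c3 : Commute v' u := (hcen u hu.1 v' hv').symm
      have c4 : Commute v' w := (hcen w hw.1 v' hv').symm
      have c5 : Commute v v' := hcen v hv.1 v' hv'
      have h2 : ⁅v * u, v' * w⁆ = ⁅u, w⁆ := by
        have e1 : ⁅v, v' * w⁆ = 1 := commutatorElement_eq_one_iff_mul_comm.mpr (c5.mul_right c2).eq
        have e2 : ⁅u, v'⁆ = 1 := commutatorElement_eq_one_iff_mul_comm.mpr c3.symm.eq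
        calc ⁅v * u, v' * w⁆ = v * (⁅u, v'⁆ * (v' * ⁅u, w⁆ * v'⁻¹)) * v⁻¹ * ⁅v, v' * w⁆ := by
              simp only [commutatorElement_def]; group
          _ = ⁅u, w⁆ := by
            rw [e1, e2, one_mul, mul_one]
            have d1 : Commute v' ⁅u, w⁆ := by
              simp only [commutatorElement_def]
              exact ((c3.mul_right c4).mul_right c3.inv_right).mul_right c4.inv_right
            have d2 : Commute v ⁅u, w⁆ := by
              simp only [commutatorElement_def]
              exact ((c1.mul_right c2).mul_right c1.inv_right).mul_right c2.inv_right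
            rw [d1.eq, mul_inv_cancel_right, d2.eq, mul_inv_cancel_right]
      rw [h2] at h1
      exact (mul_inv_eq_iff_eq_mul.mp h1)
    have hsymm : ∀ u w : G, Commute c ⁅u, w⁆ → Commute c ⁅w, u⁆ := fun u w h => by
      rw [← commutatorElement_inv]; exact h.inv_right
    have all1 : ∀ u ∈ U₁, ∀ w ∈ F, Commute c ⁅u, w⁆ := by
      intro u hu w hw
      obtain ⟨r, hr, x, hx, rfl⟩ : ∃ r ∈ R, ∃ x ∈ F, u = r * x := by
        have hRn : F ≤ normalizer (R : Set G) := fun x hx => mem_normalizer_iff.mpr fun r => by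
          have key : ∀ x ∈ U₁, ∀ r ∈ R, x * r * x⁻¹ ∈ R := fun x hx r hr => by
            rw [show x * r * x⁻¹ = ⁅x, r⁆ * r by simp [commutatorElement_def]]
            exact mul_mem (hVR (hZV₁ (hAA (commutator_mem_commutator (hU₁A hx) (hU₁A hr.1))))) hr
          exact ⟨key x hx.1 r, fun h => by simpa [mul_assoc] using key x⁻¹ (inv_mem hx.1) _ h⟩
        obtain ⟨r, hr, x, hx, h⟩ := (Cfsg.Lib.Coprime.mem_sup_of_le_normalizer hRn).mp (hsplit hu)
        exact ⟨r, hr, x, hx, h.symm⟩
      rw [hbil r x w (hU₁A hr.1) (hU₁A hx.1) (hU₁A hw.1)]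
      exact (hFF x hx w hw).mul_right (hr.2 w hw.1)
    have all2 : ∀ u ∈ U₁, ∀ w ∈ U₁, Commute c ⁅u, w⁆ := by
      intro u hu w hw
      have hRn : F ≤ normalizer (R : Set G) := fun x hx => mem_normalizer_iff.mpr fun r => by
        have key : ∀ x ∈ U₁, ∀ r ∈ R, x * r * x⁻¹ ∈ R := fun x hx r hr => by
          rw [show x * r * x⁻¹ = ⁅x, r⁆ * r by simp [commutatorElement_def]]
          exact mul_mem (hVR (hZV₁ (hAA (commutator_mem_commutator (hU₁A hx) (hU₁A hr.1))))) hr
        exact ⟨key x hx.1 r, fun h => by simpa [mul_assoc] using key x⁻¹ (inv_mem hx.1) _ h⟩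
      obtain ⟨r, hr, x, hx, rfl⟩ := (Cfsg.Lib.Coprime.mem_sup_of_le_normalizer hRn).mp (hsplit hw)
      refine hsymm _ _ ?_
      rw [hbil r x u (hU₁A hr.1) (hU₁A hx.1) (hU₁A hu)]
      exact (hsymm _ _ (all1 u hu x hx)).mul_right (hr.2 u hu)
    have hle : ⁅U₁, U₁⁆ ≤ centralizer ({c} : Set G) := commutator_le.mpr fun u hu w hw =>
      mem_centralizer_singleton_iff.mpr (all2 u hu w hw).eq.symm
    exact mem_centralizer_iff.mpr fun z hz => (mem_centralizer_singleton_iff.mp (hle hz))
  have hU₁2 : U₁ ∈ Cfsg.classTwoSubgroups G := by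
    rw [mem_classTwo, eq_bot_iff, ← hA2]
    exact commutator_mono (commutator_mono hU₁A hU₁A) hU₁A
  have hBU : ⁅B, U₁⁆ ≤ zc B := htest U₁ hU₁2 hU₁A le_normalizer_of_normal hfix (by
    rw [eq_bot_iff]
    refine (commutator_mono ((commutator_mono le_rfl hU₁A).trans hBz) hU₁A).trans ?_
    rw [commutator_zc_self])
  -- quadratic on `U₁/V₁`
  have hquad : ⁅⁅W, zpowers (π b)⁆, zpowers (π b)⁆ = ⊥ := by
    have h1 : ⁅⁅U₁, zpowers b⁆, zpowers b⁆ = ⊥ := by
      rw [eq_bot_iff, ← commutator_zc_self B]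
      refine commutator_mono ?_ (zpowers_le.mpr hb)
      rw [commutator_comm] at hBU
      exact (commutator_mono le_rfl (zpowers_le.mpr hb)).trans hBU
    rw [← MonoidHom.map_zpowers, ← map_commutator, ← map_commutator, h1, Subgroup.map_bot]
  have hmem := mem_pk_of_quadratic (hst V₁) W ((hAp.to_le hU₁A).map π)
    (by rw [← MonoidHom.map_zpowers]; exact hbp.map π) hquad
  rw [pk, mem_comap, Cfsg.Lib.Functor.pCore_eq_bot_of_minimal W ((hAp.to_le hU₁A).map π) hmin,
    mem_bot, QuotientGroup.mk'_apply, QuotientGroup.eq_one_iff] at hmem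
  intro u hu
  obtain ⟨u₁, hu₁, v, hv, rfl⟩ := mem_sup_of_normal_right.mp (hU.ge hu)
  have h1 : b * u₁ * b⁻¹ * u₁⁻¹ ∈ V := by
    have h2 : π (b * u₁ * b⁻¹ * u₁⁻¹) = 1 := by
      rw [map_mul, map_mul, map_mul, map_inv, map_inv,
        ← mem_centralizer_iff.mp hmem _ (mem_map_of_mem π hu₁), mul_inv_cancel_right, mul_inv_cancel]
    exact ((QuotientGroup.eq_one_iff _).mp h2).2
  have e : b * (u₁ * v) * b⁻¹ * (u₁ * v)⁻¹ =
      (b * u₁ * b⁻¹ * u₁⁻¹) * (u₁ * ((b * v * b⁻¹) * v⁻¹) * u₁⁻¹) := by group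
  rw [e]
  exact mul_mem h1 (Normal.conj_mem inferInstance _
    (mul_mem (Normal.conj_mem inferInstance v hv b) (inv_mem hv)) u₁)

/-- **K-infinity is normal**, quotient stability and characteristic `p` -/
theorem kInf_normal (hst : ∀ (N : Subgroup G) [N.Normal], Cfsg.IsNormalizerPStable p (G ⧸ N))
    (hc : centralizer (Cfsg.pCore p G : Set G) ≤ Cfsg.pCore p G) (S : Sylow p G) :
    (Cfsg.inducedFunctor Cfsg.kInfLower (S : Subgroup G)).Normal ∧
      (Cfsg.inducedFunctor Cfsg.kInfUpper (S : Subgroup G)).Normal := by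
  set T := Cfsg.pCore p G
  have hTp : IsPGroup p T := Cfsg.Lib.Components.isPGroup_pCore p
  obtain ⟨A₀, hchar, h1, h2, h3⟩ := Cfsg.Lib.SolvStruct.exists_critical hTp
  haveI := hchar
  set A := A₀.map T.subtype with hA
  have hAT : A ≤ T := map_subtype_le _
  haveI : A.Normal := inferInstance
  have hAp : IsPGroup p A := hTp.to_le hAT
  have hA2₀ : ⁅⁅A₀, A₀⁆, A₀⁆ = ⊥ := by
    rw [commutator_eq_bot_iff_le_centralizer]
    refine le_trans ?_ h1
    rw [← map_subtype_commutator]
    exact map_mono (Cfsg.Lib.PGroups.commutator_le_frattini (hTp.to_subgroup A₀))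
  have hA2 : ⁅⁅A, A⁆, A⁆ = ⊥ := by rw [← map_commutator, ← map_commutator, hA2₀, Subgroup.map_bot]
  have hTA : ⁅T, A⁆ ≤ zc A := by
    have h := map_mono (f := T.subtype) h2
    rw [map_commutator, ← MonoidHom.range_eq_map, range_subtype, commutator_comm] at h
    exact h.trans (map_zc T.subtype_injective A₀).le
  have hCA : centralizer (A : Set G) ≤ T := by
    refine Cfsg.Lib.Components.le_pCore fun ⟨x, hx⟩ => ?_
    obtain ⟨a, y, -, hy, hay, ⟨j, hj⟩, hcop⟩ := Cfsg.Lib.Transfer.exists_pPart p x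
    have hyA : y ∈ centralizer (A : Set G) := zpowers_le.mpr hx hy
    let φ : MulAut T := MulAut.conjNormal y
    have hφ : φ = 1 := Cfsg.Agent.S0121.result hTp A₀ hchar h1 h2 h3 φ
      (hcop.coprime_dvd_left (orderOf_map_dvd MulAut.conjNormal y)) fun z hz => Subtype.ext (by
        show ((MulAut.conjNormal y z : T) : G) = z
        rw [MulAut.conjNormal_apply, ← mem_centralizer_iff.mp hyA (z : G) (mem_map_of_mem T.subtype hz),
          mul_inv_cancel_right])
    have hyT : y ∈ T := hc (mem_centralizer_iff.mpr fun z hz => by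
      have h5 : ((MulAut.conjNormal y (⟨z, hz⟩ : T) : T) : G) = z := by
        rw [show MulAut.conjNormal y = φ from rfl, hφ]; rfl
      rw [MulAut.conjNormal_apply] at h5
      conv_lhs => rw [← h5]
      group)
    obtain ⟨i, hi⟩ := IsPGroup.iff_orderOf.mp hTp ⟨y, hyT⟩
    rw [Subgroup.orderOf_mk] at hi
    have hy1 : y = 1 := orderOf_eq_one_iff.mp (Nat.eq_one_of_dvd_coprimes (hcop.pow_right i) dvd_rfl hi.dvd)
    refine ⟨j, Subtype.ext ?_⟩
    show x ^ p ^ j = 1
    rw [← hay, hy1, mul_one, ← hj, pow_orderOf_eq_one]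
  have hst0 : Cfsg.IsNormalizerPStable p G :=
    normalizerPStable_of_injective (QuotientGroup.quotientBot (G := G)).symm.toMonoidHom
      (QuotientGroup.quotientBot (G := G)).symm.injective (hst ⊥)
  haveI hZn : (zc A).Normal := inferInstanceAs (A ⊓ centralizer (A : Set G)).Normal
  refine induced_normal S A hAT hA2 hTA (fun A' hA'S hA'2 hAN h3' h4' => ?_) (fun B hBS hB2 hAB htest => ?_)
  · intro g hg
    have hgp : IsPGroup p (zpowers g) := (S.2.to_le hA'S).to_le (zpowers_le.mpr hg)
    have hgA' : zpowers g ≤ A' := zpowers_le.mpr hg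
    refine pk_le_pCore hCA (pk_of_series (V := zc A) (hAp.to_le (zc_le A))
      (mem_pk_of_quadratic hst0 (zc A) (hAp.to_le (zc_le A)) hgp
        (le_bot_iff.mp ((commutator_mono (commutator_mono le_rfl hgA') hgA').trans h4'.le))) ?_)
    haveI : (A.map (QuotientGroup.mk' (zc A))).Normal :=
      Subgroup.Normal.map inferInstance _ (QuotientGroup.mk'_surjective _)
    refine mem_pk_of_quadratic (hst (zc A)) _ (hAp.map _) ?_ ?_
    · rw [← MonoidHom.map_zpowers]; exact hgp.map _
    · rw [← MonoidHom.map_zpowers, ← map_commutator, ← map_commutator, Subgroup.map_eq_bot_iff,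
        QuotientGroup.ker_mk']
      refine le_inf ((commutator_mono (commutator_le_left A _) le_rfl).trans (commutator_le_left A _)) ?_
      refine le_trans (commutator_mono ((commutator_mono le_rfl hgA').trans
        (le_normalizer_iff_commutator_le_right.mp hAN)) hgA') ?_
      exact le_centralizer_iff.mp (commutator_eq_bot_iff_le_centralizer.mp h3')
  have hBp : IsPGroup p B := S.2.to_le hBS
  have hAzB : A ≤ normalizer (zc B : Set G) := hAB.trans (Cfsg.Lib.Thompson.normalizer_le_normalizer_center B)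
  have hzBT : zc B ≤ T := fun z hz => by
    refine pk_le_pCore hCA (mem_pk_of_quadratic hst0 A hAp (hBp.to_le (zpowers_le.mpr (zc_le B hz))) ?_)
    rw [eq_bot_iff, ← commutator_zc_self B]
    refine commutator_mono ?_ (zpowers_le.mpr (zc_le B hz))
    exact (commutator_mono le_rfl (zpowers_le.mpr hz)).trans (le_normalizer_iff_commutator_le_right.mp hAzB)
  have hBz : ⁅zc B, A⁆ ≤ zc A := (commutator_mono hzBT le_rfl).trans hTA
  have hBZ : B ≤ pk p (zc A) := by
    haveI : IsMulCommutative (zc A) := ⟨⟨fun x y => Subtype.ext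
      (mem_centralizer_iff.mp y.2.2 x x.2.1)⟩⟩
    have h := htest (zc A) (normal_abelian_classTwo _) (zc_le A) le_normalizer_of_normal
      (by
        rw [show ⁅zc A, zc A⁆ = ⊥ from le_bot_iff.mp
          ((commutator_mono le_rfl (zc_le A)).trans (commutator_zc_self A).le), commutator_bot_right])
      (le_bot_iff.mp ((commutator_mono (commutator_le_right (zc B) (zc A)) (zc_le A)).trans
        (commutator_zc_self A).le))
    intro b hb
    refine mem_pk_of_quadratic hst0 (zc A) (hAp.to_le (zc_le A)) (hBp.to_le (zpowers_le.mpr hb)) ?_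
    rw [eq_bot_iff, ← commutator_zc_self B]
    refine commutator_mono ?_ (zpowers_le.mpr hb)
    rw [commutator_comm] at h
    exact (commutator_mono le_rfl (zpowers_le.mpr hb)).trans h
  obtain ⟨U, ⟨hUn, hZU, hUA, hUB⟩, hmax⟩ := Set.exists_max_image
    {U : Subgroup G | ∃ _ : U.Normal, zc A ≤ U ∧ U ≤ A ∧ B ≤ pk p U} (fun U => Nat.card U) (Set.toFinite _)
    ⟨zc A, hZn, le_rfl, zc_le A, hBZ⟩
  haveI := hUn
  rcases eq_or_lt_of_le hUA with h | h
  · subst h; exact hUB.trans (pk_le_pCore hCA)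
  exfalso
  obtain ⟨U', ⟨hU'n, hlt, hU'A⟩, hmin⟩ := Set.exists_min_image
    {U' : Subgroup G | U'.Normal ∧ U < U' ∧ U' ≤ A} (fun U => Nat.card U) (Set.toFinite _)
    ⟨A, inferInstance, h, le_rfl⟩
  haveI := hU'n
  have hstep := chief_step hst hAp hA2 hBp hB2 hAB hBz htest hZU hlt hU'A (fun N hN h1 h2 => by
    rcases eq_or_lt_of_le h1 with e | e
    · exact Or.inl e.symm
    · exact Or.inr (eq_of_le_of_card_ge h2 (hmin N ⟨hN, e, h2.trans hU'A⟩))) hUB
  have := hmax U' ⟨hU'n, hZU.trans hlt.le, hU'A, fun b hb => pk_of_series (hAp.to_le hUA) (hUB hb) ?_⟩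
  · exact absurd (eq_of_le_of_card_ge hlt.le this) hlt.ne
  · haveI : (U'.map (QuotientGroup.mk' U)).Normal :=
      Subgroup.Normal.map inferInstance _ (QuotientGroup.mk'_surjective _)
    refine centralizer_le_pk _ (mem_centralizer_iff.mpr ?_)
    rintro _ ⟨u, hu, rfl⟩
    have h1 : QuotientGroup.mk' U (b * u * b⁻¹ * u⁻¹) = 1 := (QuotientGroup.eq_one_iff _).mpr (hstep b hb u hu)
    rw [map_mul, map_mul, map_mul, map_inv, map_inv, mul_inv_eq_one, mul_inv_eq_iff_eq_mul] at h1
    exact h1.symm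

end Cfsg.Lib.KInf
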