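import Cfsg.Agent.Components.KInf.Degree

/-!
An element witnessing that a K-infinity subgroup is not normal.
-/

set_option linter.style.haveILetI false

namespace Cfsg.Lib.KInf

open Subgroup
open scoped commutatorElement

universe u

variable {G : Type u} [Group G] [Finite G] {p : ℕ} [Fact p.Prime]

theorem exists_critical_image (p : ℕ) [Fact p.Prime] :
    ∃ A : Subgroup G, A.Normal ∧ A ≤ Cfsg.pCore p G ∧ ⁅⁅A, A⁆, A⁆ = ⊥ ∧
      ⁅Cfsg.pCore p G, A⁆ ≤ zc A ∧ Cfsg.pCore p G ⊓ centralizer (A : Set G) ≤ zc A := by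
  set T := Cfsg.pCore p G
  have hTp : IsPGroup p T := Cfsg.Lib.Components.isPGroup_pCore p
  obtain ⟨A₀, hchar, h1, h2, h3⟩ := Cfsg.Lib.SolvStruct.exists_critical hTp
  haveI := hchar
  have hA2₀ : ⁅⁅A₀, A₀⁆, A₀⁆ = ⊥ := by
    rw [commutator_eq_bot_iff_le_centralizer]
    refine le_trans ?_ h1
    rw [← map_subtype_commutator]
    exact map_mono (Cfsg.Lib.PGroups.commutator_le_frattini (hTp.to_subgroup A₀))
  refine ⟨A₀.map T.subtype, inferInstance, map_subtype_le _,
    by rw [← map_commutator, ← map_commutator, hA2₀, Subgroup.map_bot], ?_, ?_⟩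
  · have h := map_mono (f := T.subtype) h2
    rw [map_commutator, ← MonoidHom.range_eq_map, range_subtype, commutator_comm] at h
    exact h.trans (map_zc T.subtype_injective A₀).le
  · rintro x ⟨hxT, hx⟩
    refine ⟨⟨⟨x, hxT⟩, h3 (mem_centralizer_iff.mpr fun a ha => Subtype.ext ?_), rfl⟩, hx⟩
    exact mem_centralizer_iff.mp hx _ (mem_map_of_mem T.subtype ha)

/-- degree four and quadratic on the centre of `O_p` -/
theorem exists_cand_outside (S : Sylow p G)
    (hK : ¬ (Cfsg.inducedFunctor Cfsg.kInfLower (S : Subgroup G)).Normal ∨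
      ¬ (Cfsg.inducedFunctor Cfsg.kInfUpper (S : Subgroup G)).Normal) :
    ∃ g : G, g ∈ (S : Subgroup G) ∧ g ∉ Cfsg.pCore p G ∧
      (∀ U V : Subgroup G, Cfsg.IsChiefFactor U V → U ≤ Cfsg.pCore p G →
        Cfsg.iterCommutator U (zpowers g) 4 ≤ V) ∧
      ⁅⁅Cfsg.pCore p G ⊓ centralizer (Cfsg.pCore p G : Set G), zpowers g⁆, zpowers g⁆ = ⊥ := by
  obtain ⟨A, hAn, hAT, hA2, hTA, hCA⟩ := exists_critical_image (G := G) p
  haveI := hAn
  by_contra hno
  push Not at hno
  have hgood := normal_of_no_cand S A hAT hA2 hTA fun g hgS hg => by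
    by_contra hgT
    refine hno g hgS hgT (fun U V hUV hUT => degree_four_chief (Cfsg.Lib.Components.isPGroup_pCore p)
      hAT hTA hCA hg hUV hUT) (le_bot_iff.mp ?_)
    refine le_trans ?_ hg.2.le
    exact commutator_mono (commutator_mono ((inf_le_inf_left _ (centralizer_le hAT)).trans hCA) le_rfl) le_rfl
  exact hK.elim (· hgood.1) (· hgood.2)

end Cfsg.Lib.KInf
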