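import Cfsg.Agent.Components.KInf.Basic
import Cfsg.Agent.PGroups.Basic

/-!
Maximal members of the K-families contain their centralizers.
-/

set_option linter.style.haveILetI false
set_option linter.unusedSectionVars false

namespace Cfsg.Lib.KInf

open Subgroup
open scoped commutatorElement

universe u

variable {P : Type u} [Group P] [Finite P] {p : ℕ} [Fact p.Prime]

theorem exists_extension (hP : IsPGroup p P) {B Q : Subgroup P} (hQ : Q ≤ normalizer (B : Set P))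
    (hC : ¬ centralizer (B : Set P) ≤ B) :
    ∃ x ∈ centralizer (B : Set P), x ∉ B ∧ ∀ q ∈ Q, ∀ i : ℤ, ⁅x ^ i, q⁆ ∈ zc B := by
  set N := normalizer (B : Set P)
  have hCN : centralizer (B : Set P) ≤ N := Cfsg.Lib.Thompson.centralizer_le_normalizer B
  have hZN : zc B ≤ N := (zc_le B).trans le_normalizer
  set Z := (zc B).subgroupOf N
  haveI : Z.Normal := (normal_subgroupOf_iff_le_normalizer hZN).mpr
    (Cfsg.Lib.Thompson.normalizer_le_normalizer_center B)
  haveI : ((centralizer (B : Set P)).subgroupOf N).Normal := (normal_subgroupOf_iff_le_normalizer hCN).mpr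
    (Cfsg.Lib.Thompson.normalizer_le_normalizer_centralizer B)
  set π := QuotientGroup.mk' Z
  set C := ((centralizer (B : Set P)).subgroupOf N).map π
  haveI : C.Normal := Subgroup.Normal.map inferInstance π (QuotientGroup.mk'_surjective Z)
  have hne : C ≠ ⊥ := fun h => hC fun x hx => by
    have h1 : π (⟨x, hCN hx⟩ : N) ∈ C := mem_map_of_mem π hx
    rw [h, mem_bot] at h1
    have h2 : (⟨x, hCN hx⟩ : N) ∈ Z := (QuotientGroup.eq_one_iff _).mp h1
    exact zc_le B h2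
  obtain ⟨_, ⟨x, hx, rfl⟩, hcen, hord⟩ :=
    Cfsg.Lib.PGroups.exists_mem_center_of_normal_ne_bot ((hP.to_subgroup N).to_quotient Z) hne
  refine ⟨x, hx, fun hxB => ?_, fun q hq i => ?_⟩
  · have h1 : π x = 1 := (QuotientGroup.eq_one_iff x).mpr ⟨hxB, hx⟩
    rw [h1, orderOf_one] at hord
    exact (Fact.out : p.Prime).ne_one hord.symm
  · have h1 : π ⁅x ^ i, (⟨q, hQ hq⟩ : N)⁆ = 1 := by
      rw [map_commutatorElement, map_zpow, commutatorElement_eq_one_iff_mul_comm]
      exact (mem_center_iff.mp (zpow_mem hcen i) _).symm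
    have h2 : ⁅x ^ i, (⟨q, hQ hq⟩ : N)⁆ ∈ Z := (QuotientGroup.eq_one_iff _).mp h1
    exact h2

theorem centralizer_le_of_max_upper (hP : IsPGroup p P) {B Q : Subgroup P}
    (hB : B ∈ Cfsg.kUpperStarFamily Q) (hmax : ∀ C ∈ Cfsg.kUpperStarFamily Q, B ≤ C → C = B) :
    centralizer (B : Set P) ≤ B := by
  by_contra hC
  obtain ⟨hB2, hBQ⟩ := mem_upper.mp hB
  have hQ : Q ≤ normalizer (B : Set P) := le_normalizer_iff_commutator_le_left.mpr (hBQ.trans (zc_le B))
  obtain ⟨x, hx, hxB, hxQ⟩ := exists_extension hP hQ hC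
  have hBN : zpowers x ≤ normalizer (B : Set P) :=
    zpowers_le.mpr (Cfsg.Lib.Thompson.centralizer_le_normalizer B hx)
  set B' := B ⊔ zpowers x
  have hxc : ∀ (i : ℤ) (b : P), b ∈ B → Commute (x ^ i) b := fun i b hb =>
    (show Commute x b from (mem_centralizer_iff.mp hx b hb).symm).zpow_left i
  have hzz : zc B ≤ zc B' := fun z hz => ⟨mem_sup_left hz.1, mem_centralizer_iff.mpr fun y hy => by
    obtain ⟨b, hb, _, ⟨i, rfl⟩, rfl⟩ := (Cfsg.Lib.Coprime.mem_sup_of_le_normalizer hBN).mp hy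
    exact ((show Commute b z from mem_centralizer_iff.mp hz.2 b hb).mul_left (hxc i z hz.1)).eq⟩
  have hB'2 : ⁅B', B'⁆ ≤ ⁅B, B⁆ := commutator_le.mpr fun y hy w hw => by
    obtain ⟨b, hb, _, ⟨i, rfl⟩, rfl⟩ := (Cfsg.Lib.Coprime.mem_sup_of_le_normalizer hBN).mp hy
    obtain ⟨b', hb', _, ⟨j, rfl⟩, rfl⟩ := (Cfsg.Lib.Coprime.mem_sup_of_le_normalizer hBN).mp hw
    have c1 : Commute (x ^ i) b := hxc i b hb
    have c2 : Commute (x ^ i) b' := hxc i b' hb'
    have c3 : Commute (x ^ j) b := hxc j b hb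
    have c4 : Commute (x ^ j) b' := hxc j b' hb'
    have c5 : Commute (x ^ i) (x ^ j) := (Commute.refl x).zpow_zpow i j
    have e : ⁅b * x ^ i, b' * x ^ j⁆ = ⁅b, b'⁆ := by
      calc ⁅b * x ^ i, b' * x ^ j⁆ = b * ⁅x ^ i, b' * x ^ j⁆ * b⁻¹ * ⁅b, b' * x ^ j⁆ := by
            simp only [commutatorElement_def]; group
        _ = ⁅b, b'⁆ * (b' * ⁅b, x ^ j⁆ * b'⁻¹) := by
          rw [commutatorElement_eq_one_iff_mul_comm.mpr (c2.mul_right c5).eq, mul_one, mul_inv_cancel, one_mul]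
          simp only [commutatorElement_def]; group
        _ = _ := by rw [commutatorElement_eq_one_iff_mul_comm.mpr c3.symm.eq]; group
    exact e ▸ commutator_mem_commutator hb hb'
  refine hxB ((hmax B' (mem_upper.mpr ⟨?_, commutator_le.mpr fun y hy q hq => ?_⟩) le_sup_left).le
    (mem_sup_right (mem_zpowers x)))
  · intro z hz
    have hz' := hB2 (hB'2 hz)
    exact (hzz ⟨commutator_le_self B (hB'2 hz), hz'⟩).2
  · obtain ⟨b, hb, _, ⟨i, rfl⟩, rfl⟩ := (Cfsg.Lib.Coprime.mem_sup_of_le_normalizer hBN).mp hy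
    refine hzz ?_
    rw [show ⁅b * x ^ i, q⁆ = b * ⁅x ^ i, q⁆ * b⁻¹ * ⁅b, q⁆ by simp only [commutatorElement_def]; group]
    refine mul_mem ?_ (hBQ (commutator_mem_commutator hb hq))
    rw [mem_centralizer_iff.mp (hxQ q hq i).2 b hb, mul_inv_cancel_right]
    exact hxQ q hq i

theorem centralizer_le_of_max_lower (hP : IsPGroup p P) {B Q : Subgroup P}
    (hB : B ∈ Cfsg.kLowerStarFamily Q) (hmax : ∀ C ∈ Cfsg.kLowerStarFamily Q, B ≤ C → C = B) :
    centralizer (B : Set P) ≤ B := by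
  by_contra hC
  obtain ⟨hB2, hQ, htest⟩ := mem_lower.mp hB
  obtain ⟨x, hx, hxB, hxQ⟩ := exists_extension hP hQ hC
  have hBN : zpowers x ≤ normalizer (B : Set P) :=
    zpowers_le.mpr (Cfsg.Lib.Thompson.centralizer_le_normalizer B hx)
  set B' := B ⊔ zpowers x
  have hxc : ∀ (i : ℤ) (b : P), b ∈ B → Commute (x ^ i) b := fun i b hb =>
    (show Commute x b from (mem_centralizer_iff.mp hx b hb).symm).zpow_left i
  have hzz : zc B ≤ zc B' := fun z hz => ⟨mem_sup_left hz.1, mem_centralizer_iff.mpr fun y hy => by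
    obtain ⟨b, hb, _, ⟨i, rfl⟩, rfl⟩ := (Cfsg.Lib.Coprime.mem_sup_of_le_normalizer hBN).mp hy
    exact ((show Commute b z from mem_centralizer_iff.mp hz.2 b hb).mul_left (hxc i z hz.1)).eq⟩
  have hB'2 : ⁅B', B'⁆ ≤ ⁅B, B⁆ := commutator_le.mpr fun y hy w hw => by
    obtain ⟨b, hb, _, ⟨i, rfl⟩, rfl⟩ := (Cfsg.Lib.Coprime.mem_sup_of_le_normalizer hBN).mp hy
    obtain ⟨b', hb', _, ⟨j, rfl⟩, rfl⟩ := (Cfsg.Lib.Coprime.mem_sup_of_le_normalizer hBN).mp hw
    have c2 : Commute (x ^ i) b' := hxc i b' hb'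
    have c3 : Commute (x ^ j) b := hxc j b hb
    have c5 : Commute (x ^ i) (x ^ j) := (Commute.refl x).zpow_zpow i j
    have e : ⁅b * x ^ i, b' * x ^ j⁆ = ⁅b, b'⁆ := by
      calc ⁅b * x ^ i, b' * x ^ j⁆ = b * ⁅x ^ i, b' * x ^ j⁆ * b⁻¹ * ⁅b, b' * x ^ j⁆ := by
            simp only [commutatorElement_def]; group
        _ = ⁅b, b'⁆ * (b' * ⁅b, x ^ j⁆ * b'⁻¹) := by
          rw [commutatorElement_eq_one_iff_mul_comm.mpr (c2.mul_right c5).eq, mul_one, mul_inv_cancel, one_mul]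
          simp only [commutatorElement_def]; group
        _ = _ := by rw [commutatorElement_eq_one_iff_mul_comm.mpr c3.symm.eq]; group
    exact e ▸ commutator_mem_commutator hb hb'
  have hact : ∀ q ∈ Q, ∀ y ∈ B', ⁅y, q⁆ ∈ B' := fun q hq y hy => by
    obtain ⟨b, hb, _, ⟨i, rfl⟩, rfl⟩ := (Cfsg.Lib.Coprime.mem_sup_of_le_normalizer hBN).mp hy
    rw [show ⁅b * x ^ i, q⁆ = b * ⁅x ^ i, q⁆ * b⁻¹ * ⁅b, q⁆ by simp only [commutatorElement_def]; group]
    exact mem_sup_left (mul_mem (mul_mem (mul_mem hb (zc_le B (hxQ q hq i))) (inv_mem hb))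
      (le_normalizer_iff_commutator_le_left.mp hQ (commutator_mem_commutator hb hq)))
  refine hxB ((hmax B' (mem_lower.mpr ⟨?_, ?_, fun A hA hAQ hB'A h1 h2 => ?_⟩) le_sup_left).le
    (mem_sup_right (mem_zpowers x)))
  · intro z hz
    exact (hzz ⟨commutator_le_self B (hB'2 hz), hB2 (hB'2 hz)⟩).2
  · exact le_normalizer_iff_commutator_le_left.mpr (commutator_le.mpr fun y hy q hq => hact q hq y hy)
  · have h3 := htest A hA hAQ (le_sup_left.trans hB'A)
      (le_bot_iff.mp ((commutator_mono le_sup_left le_rfl).trans h1.le))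
      (le_bot_iff.mp ((commutator_mono (commutator_mono hzz le_rfl) le_rfl).trans h2.le))
    refine commutator_le.mpr fun y hy a ha => hzz ?_
    obtain ⟨b, hb, _, ⟨i, rfl⟩, rfl⟩ := (Cfsg.Lib.Coprime.mem_sup_of_le_normalizer hBN).mp hy
    rw [show ⁅b * x ^ i, a⁆ = b * ⁅x ^ i, a⁆ * b⁻¹ * ⁅b, a⁆ by simp only [commutatorElement_def]; group]
    refine mul_mem ?_ (h3 (commutator_mem_commutator hb ha))
    rw [mem_centralizer_iff.mp (hxQ a (hAQ ha) i).2 b hb, mul_inv_cancel_right]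
    exact hxQ a (hAQ ha) i

theorem bot_mem_upper (Q : Subgroup P) : (⊥ : Subgroup P) ∈ Cfsg.kUpperStarFamily Q :=
  abelian_mem_upper _ Q

theorem kInf_self_central (hP : IsPGroup p P) :
    centralizer (Cfsg.kInfLower P : Set P) ≤ Cfsg.kInfLower P ∧
      centralizer (Cfsg.kInfUpper P : Set P) ≤ Cfsg.kInfUpper P := by
  obtain ⟨n, hn⟩ := exists_stable (P := P)
  constructor
  · obtain ⟨B, hB, hmax⟩ := Set.exists_max_image (Cfsg.kLowerStarFamily (Cfsg.kSeqOdd P n))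
      (fun B => Nat.card B) (Set.toFinite _) ⟨⊥, abelian_mem_lower _ _⟩
    have hBK : B ≤ Cfsg.kInfLower P := (le_even hB).trans (le_iSup (Cfsg.kSeqEven P) n)
    exact ((centralizer_le hBK).trans (centralizer_le_of_max_lower hP hB
      fun C hC h => (eq_of_le_of_card_ge h (hmax C hC)).symm)).trans hBK
  · obtain ⟨B, hB, hmax⟩ := Set.exists_max_image (Cfsg.kUpperStarFamily (Cfsg.kSeqEven P n))
      (fun B => Nat.card B) (Set.toFinite _) ⟨⊥, bot_mem_upper _⟩
    have hBK : B ≤ Cfsg.kInfUpper P := (le_odd hB).trans (hn (n + 1) (by omega)).2.le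
    exact ((centralizer_le hBK).trans (centralizer_le_of_max_upper hP hB
      fun C hC h => (eq_of_le_of_card_ge h (hmax C hC)).symm)).trans hBK

end Cfsg.Lib.KInf
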