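import Cfsg.Agent.Components.KInf.Stable
import Cfsg.Agent.Components.KInf.SelfCentral
import Cfsg.Agent.Components.Functor.SelfCentral

/-!
The K-infinity normal `p`-complement criterion for odd primes.
-/

set_option linter.style.haveILetI false

namespace Cfsg.Lib.KInf

open Subgroup

universe u

variable {p : ℕ} [Fact p.Prime]

theorem critical_lower (hp : p ≠ 2) (G : Type u) [Group G] :
    Cfsg.Lib.Functor.Critical p Cfsg.kInfLower G := by
  intro L _ _ _ hc hq T hT
  exact (kInf_normal (fun N _ => Cfsg.Lib.Degree.normalizerPStable hp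
    ((Cfsg.Lib.Functor.pap_of_coatom hq T hT).of_surjective (QuotientGroup.mk' N)
      (QuotientGroup.mk'_surjective N))) hc T).1

theorem pcompl_lower (hp : p ≠ 2) {G : Type u} [Group G] [Finite G] (S : Sylow p G)
    (h : Cfsg.HasNormalPComplement p
      ↥(normalizer ((Cfsg.inducedFunctor Cfsg.kInfLower (S : Subgroup G) : Subgroup G) : Set G))) :
    Cfsg.HasNormalPComplement p G :=
  Cfsg.Lib.Functor.pcompl_main isCharPFunctor_lower _ G rfl (critical_lower hp G) S h

theorem lower_self_central {G : Type u} [Group G] [Finite G] (S : Sylow p G) :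
    (S : Subgroup G) ⊓ centralizer ((Cfsg.inducedFunctor Cfsg.kInfLower (S : Subgroup G) : Subgroup G) : Set G) ≤
      Cfsg.inducedFunctor Cfsg.kInfLower (S : Subgroup G) := by
  rintro x ⟨hxS, hx⟩
  refine ⟨⟨x, hxS⟩, (kInf_self_central S.2).1 (mem_centralizer_iff.mpr fun k hk => Subtype.ext ?_), rfl⟩
  exact mem_centralizer_iff.mp hx _ ⟨k, hk, rfl⟩

theorem pcompl_lower_automizer (hp : p ≠ 2) {G : Type u} [Group G] [Finite G] (S : Sylow p G)
    (h : ∀ g ∈ normalizer ((Cfsg.inducedFunctor Cfsg.kInfLower (S : Subgroup G) : Subgroup G) : Set G),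
      (orderOf g).Coprime p →
        g ∈ centralizer ((Cfsg.inducedFunctor Cfsg.kInfLower (S : Subgroup G) : Subgroup G) : Set G)) :
    Cfsg.HasNormalPComplement p G :=
  pcompl_lower hp S (Cfsg.Lib.Functor.normalizer_compl_of_self_central S _
    (le_normalizer.trans (Cfsg.Lib.Functor.normalizer_le_normalizer_induced isCharPFunctor_lower S.2))
    (lower_self_central S) h)

/-- in a group with a normal `p`-complement the automizer of a `p`-subgroup is a `p`-group -/
theorem centralizes_of_pcompl {G : Type u} [Group G] [Finite G] (hG : Cfsg.HasNormalPComplement p G)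
    {K : Subgroup G} (hK : IsPGroup p K) {g : G} (hg : g ∈ normalizer (K : Set G))
    (hgp : (orderOf g).Coprime p) : g ∈ centralizer (K : Set G) := by
  obtain ⟨M, hM, hc, i, hi⟩ := Cfsg.Lib.Transfer.hasNormalPComplement_iff.mp hG
  have hgM : g ∈ M := (Cfsg.Lib.Transfer.mem_iff_coprime_orderOf hc hi g).mpr hgp
  refine mem_centralizer_iff.mpr fun k hk => ?_
  set w := g * k * g⁻¹ * k⁻¹ with hw
  have hwM : w ∈ M := by
    rw [hw, show g * k * g⁻¹ * k⁻¹ = g * (k * g⁻¹ * k⁻¹) by group]
    exact mul_mem hgM (hM.conj_mem _ (inv_mem hgM) k)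
  have hwK : w ∈ K := mul_mem ((mem_normalizer_iff.mp hg k).mp hk) (inv_mem hk)
  obtain ⟨j, hj⟩ := IsPGroup.iff_orderOf.mp hK ⟨w, hwK⟩
  rw [Subgroup.orderOf_mk] at hj
  have hw1 : w = 1 := orderOf_eq_one_iff.mp (Nat.eq_one_of_dvd_coprimes (hc.pow_right j)
    (by rw [← Subgroup.orderOf_mk w hwM]; exact orderOf_dvd_natCard _) hj.dvd)
  rw [hw, mul_inv_eq_one] at hw1
  calc k * g = g * k * g⁻¹ * g := by rw [hw1]
    _ = g * k := by group

end Cfsg.Lib.KInf
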