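import Cfsg.Agent.Components.Control.WeakFinal
import Cfsg.Agent.Components.Functor.IndexP

/-!
The lower K-infinity subgroup controls weak closure of elements.
-/

set_option linter.style.haveILetI false

namespace Cfsg.Lib.KInf

open Subgroup

universe u

variable {p : ℕ} [Fact p.Prime] {G : Type u} [Group G] [Finite G]

theorem conj_lower : Cfsg.IsConjugacyFunctor p (Cfsg.inducedFunctor (G := G) Cfsg.kInfLower) :=
  Cfsg.Lib.Functor.isConjugacyFunctor_induced isCharPFunctor_lower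

theorem center_le_induced (P : Subgroup G) :
    P ⊓ centralizer (P : Set G) ≤ Cfsg.inducedFunctor Cfsg.kInfLower P := fun z hz =>
  ⟨⟨z, hz.1⟩, center_le_lower (mem_center_iff.mpr fun y => Subtype.ext (mem_centralizer_iff.mp hz.2 y y.2)), rfl⟩

theorem exists_quadratic (H T : Subgroup G) (hTH : T ≤ H) (hT : IsPGroup p T) (hnd : ¬ p ∣ T.relIndex H)
    (hn : ¬ H ≤ normalizer ((Cfsg.inducedFunctor Cfsg.kInfLower T : Subgroup G) : Set G)) :
    ∃ g : G, g ∈ T ∧ g ∉ Cfsg.pCoreOf p H ∧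
      ⁅⁅Cfsg.pCoreOf p H ⊓ centralizer (Cfsg.pCoreOf p H : Set G), zpowers g⁆, zpowers g⁆ = ⊥ := by
  let T' : Sylow p H := (hT.comap_subtype (K := H)).toSylow hnd
  obtain ⟨g, hgT, hgQ, -, hq⟩ := exists_cand_outside T' (Or.inl fun hnor => hn (by
    intro x hx
    have hT' : (T' : Subgroup H).map H.subtype = T := map_subgroupOf_eq_of_le hTH
    rw [← hT', ← Cfsg.Lib.Functor.map_induced isCharPFunctor_lower T'.2 H.subtype_injective.injOn]
    exact le_normalizer_map H.subtype ⟨⟨x, hx⟩, by rw [normalizer_eq_top_iff.mpr hnor]; exact mem_top _, rfl⟩))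
  refine ⟨(g : G), hgT, ?_, ?_⟩
  · rintro ⟨q, hq', e⟩
    exact hgQ ((show q = g from Subtype.ext e) ▸ hq')
  · have h := congrArg (Subgroup.map H.subtype) hq
    rw [map_commutator, map_commutator, Subgroup.map_bot, MonoidHom.map_zpowers] at h
    rw [show Cfsg.pCoreOf p H ⊓ centralizer (Cfsg.pCoreOf p H : Set G) =
      (Cfsg.pCore p H ⊓ centralizer (Cfsg.pCore p H : Set H)).map H.subtype from
        (map_zc H.subtype_injective (Cfsg.pCore p H)).symm]
    exact h

theorem exists_small_degree (hp : p ≠ 2) (H T : Subgroup G) (hTH : T ≤ H) (hT : IsPGroup p T)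
    (hnd : ¬ p ∣ T.relIndex H)
    (hn : ¬ H ≤ normalizer ((Cfsg.inducedFunctor Cfsg.kInfLower T : Subgroup G) : Set G)) :
    ∃ g : G, g ∈ T ∧ g ∉ Cfsg.pCoreOf p H ∧ ∀ U V : Subgroup H, Cfsg.IsChiefFactor U V →
      U.map H.subtype ≤ Cfsg.pCoreOf p H ⊓ centralizer (Cfsg.pCoreOf p H : Set G) →
      Cfsg.iterCommutator (U.map H.subtype) (zpowers g) (p - 1) ≤ V.map H.subtype := by
  obtain ⟨g, h1, h2, h3⟩ := exists_quadratic H T hTH hT hnd hn
  refine ⟨g, h1, h2, fun U V _ hU => ?_⟩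
  have h4 : Cfsg.iterCommutator (U.map H.subtype) (zpowers g) 2 = ⊥ :=
    le_bot_iff.mp ((Cfsg.Lib.Degree.iterCommutator_mono hU _ 2).trans h3.le)
  have hp2 : 2 ≤ p - 1 := by
    have := (Fact.out : p.Prime).two_le
    omega
  exact (Cfsg.Lib.Degree.iterCommutator_eq_bot_of_le hp2 h4).le.trans bot_le

end Cfsg.Lib.KInf
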