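import Cfsg.Agent.Components.KInf.Candidates

/-!
A candidate outside `O_p` moves a chief factor of the critical subgroup quadratically and non-trivially.
-/

set_option linter.style.haveILetI false
set_option linter.unusedSectionVars false

namespace Cfsg.Lib.KInf

open Subgroup
open scoped commutatorElement

universe u

variable {G : Type u} [Group G] [Finite G] {p : ℕ} [Fact p.Prime]

theorem pCore_le_pk (U : Subgroup G) [U.Normal] : Cfsg.pCore p G ≤ pk p U := by
  haveI : ((Cfsg.pCore p G).map (QuotientGroup.mk' (centralizer (U : Set G)))).Normal :=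
    Subgroup.Normal.map inferInstance _ (QuotientGroup.mk'_surjective _)
  exact map_le_iff_le_comap.mp
    (Cfsg.Lib.Components.le_pCore ((Cfsg.Lib.Components.isPGroup_pCore p).map _))

/-- climbing a chief series of `A` through its centre -/
theorem climb {A B : Subgroup G} [A.Normal] (hA : IsPGroup p A)
    (hCA : centralizer (A : Set G) ≤ Cfsg.pCore p G)
    (h : ∀ U V : Subgroup G, ∀ [U.Normal] [V.Normal], Cfsg.IsChiefFactor U V → U ≤ A →
      (U ≤ zc A ∨ zc A ≤ V) → B ≤ pk p V →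
      ∀ b ∈ B, b ∈ Cfsg.pCore p G ∨ ∀ u ∈ U, b * u * b⁻¹ * u⁻¹ ∈ V) :
    B ≤ Cfsg.pCore p G := by
  haveI hZn : (zc A).Normal := inferInstanceAs (A ⊓ centralizer (A : Set G)).Normal
  obtain ⟨V, ⟨hVn, hVA, hVZ, hVB⟩, hmax⟩ := Set.exists_max_image
    {V : Subgroup G | ∃ _ : V.Normal, V ≤ A ∧ (V ≤ zc A ∨ zc A ≤ V) ∧ B ≤ pk p V}
    (fun V => Nat.card V) (Set.toFinite _)
    ⟨⊥, inferInstance, bot_le, Or.inl bot_le, fun b _ => centralizer_le_pk _
      (mem_centralizer_iff.mpr fun x hx => by rw [mem_bot.mp hx, one_mul, mul_one])⟩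
  haveI := hVn
  rcases eq_or_lt_of_le hVA with e | hlt
  · subst e; exact hVB.trans (pk_le_pCore hCA)
  exfalso
  obtain ⟨Y, hYn, hVY, hYA, hY⟩ : ∃ Y : Subgroup G, Y.Normal ∧ V < Y ∧ Y ≤ A ∧ (Y ≤ zc A ∨ zc A ≤ V) := by
    by_cases hz : zc A ≤ V
    · exact ⟨A, inferInstance, hlt, le_rfl, Or.inr hz⟩
    · exact ⟨zc A, hZn, lt_of_le_not_ge (hVZ.resolve_right hz) hz, zc_le A, Or.inl le_rfl⟩
  obtain ⟨U, ⟨hUn, hVU, hUY⟩, hmin⟩ := Set.exists_min_image
    {U : Subgroup G | U.Normal ∧ V < U ∧ U ≤ Y} (fun U => Nat.card U) (Set.toFinite _)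
    ⟨Y, hYn, hVY, le_rfl⟩
  haveI := hUn
  have hch : Cfsg.IsChiefFactor U V := ⟨hVU, hUn, hVn, fun N hN h1 h2 => by
    rcases eq_or_lt_of_le h1 with e | e
    · exact Or.inl e.symm
    · exact Or.inr (eq_of_le_of_card_ge h2 (hmin N ⟨hN, e, h2.trans hUY⟩))⟩
  have hUV : U ≤ zc A ∨ zc A ≤ V := hY.imp_left hUY.trans
  have := hmax U ⟨hUn, hUY.trans hYA, hUV.imp_right fun h => h.trans hVU.le, fun b hb => ?_⟩
  · exact hVU.ne (eq_of_le_of_card_ge hVU.le this)
  rcases h U V hch (hUY.trans hYA) hUV hVB b hb with hbT | hbU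
  · exact pCore_le_pk U hbT
  refine pk_of_series (hA.to_le hVA) (hVB hb) ?_
  haveI : (U.map (QuotientGroup.mk' V)).Normal :=
    Subgroup.Normal.map inferInstance _ (QuotientGroup.mk'_surjective _)
  refine centralizer_le_pk _ (mem_centralizer_iff.mpr ?_)
  rintro _ ⟨u, hu, rfl⟩
  have h1 : QuotientGroup.mk' V (b * u * b⁻¹ * u⁻¹) = 1 := (QuotientGroup.eq_one_iff _).mpr (hbU u hu)
  rw [map_mul, map_mul, map_mul, map_inv, map_inv, mul_inv_eq_one, mul_inv_eq_iff_eq_mul] at h1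
  exact h1.symm

/-- above the centre, the members of the lower family act quadratically or trivially -/
theorem quad_above {A : Subgroup G} [A.Normal] (hAp : IsPGroup p A) (hA2 : ⁅⁅A, A⁆, A⁆ = ⊥)
    {B : Subgroup G} (hB2 : B ∈ Cfsg.classTwoSubgroups G)
    (hAB : A ≤ normalizer (B : Set G)) (hBz : ⁅zc B, A⁆ ≤ zc A)
    (htest : ∀ A' ∈ Cfsg.classTwoSubgroups G, A' ≤ A → B ≤ normalizer (A' : Set G) → ⁅B, ⁅A', A'⁆⁆ = ⊥ →
        ⁅⁅zc B, A'⁆, A'⁆ = ⊥ → ⁅B, A'⁆ ≤ zc B)
    {U V : Subgroup G} [U.Normal] [V.Normal] (hZV : zc A ≤ V) (hVU : V < U) (hUA : U ≤ A)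
    (hchief : ∀ N : Subgroup G, N.Normal → V ≤ N → N ≤ U → N = V ∨ N = U) (hBV : B ≤ pk p V) :
    ∀ b ∈ B, ⁅⁅U, zpowers b⁆, zpowers b⁆ ≤ V ∨ ∀ u ∈ U, b * u * b⁻¹ * u⁻¹ ∈ V := by
  set N₀ := centralizer (V : Set G)
  haveI : N₀.Normal := normal_centralizer
  set U₀ := ⁅U, N₀⁆
  haveI : U₀.Normal := commutator_normal U N₀
  have hAA : ⁅A, A⁆ ≤ zc A :=
    le_inf (commutator_le_self A) ((commutator_eq_bot_iff_le_centralizer).mp hA2)
  intro b hb
  by_cases hU₀ : U₀ ≤ V
  · -- `N₀` is trivial on `U/V`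
    right
    set π := QuotientGroup.mk' V
    have hπ : Function.Surjective π := QuotientGroup.mk'_surjective V
    haveI hUπ : (U.map π).Normal := Subgroup.Normal.map inferInstance π hπ
    set C := centralizer (U.map π : Set (G ⧸ V))
    let θ : G →* (G ⧸ V) ⧸ C := (QuotientGroup.mk' C).comp π
    have hθ : Function.Surjective θ := (QuotientGroup.mk'_surjective C).comp hπ
    have hN₀θ : ∀ x ∈ N₀, θ x = 1 := fun x hx => by
      refine (QuotientGroup.eq_one_iff _).mpr (mem_centralizer_iff.mpr ?_)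
      rintro _ ⟨u, hu, rfl⟩
      have h1 : π ⁅u, x⁆ = 1 := (QuotientGroup.eq_one_iff _).mpr (hU₀ (commutator_mem_commutator hu hx))
      rw [map_commutatorElement, commutatorElement_eq_one_iff_mul_comm] at h1
      exact h1
    haveI : ((pk p V).map θ).Normal := Subgroup.Normal.map inferInstance θ hθ
    have hp : IsPGroup p ((pk p V).map θ) := by
      rintro ⟨_, k, hk, rfl⟩
      obtain ⟨a, y, -, hy, hay, ⟨j, hj⟩, hcop⟩ := Cfsg.Lib.Transfer.exists_pPart p k
      refine ⟨j, Subtype.ext ?_⟩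
      show θ k ^ p ^ j = 1
      rw [← hay, map_mul, hN₀θ y (pPart_mem_centralizer hk hy hcop), mul_one, ← map_pow, ← hj,
        pow_orderOf_eq_one, map_one]
    have hle := Cfsg.Lib.Components.le_pCore hp
    rw [Cfsg.Lib.Functor.pCore_eq_bot_of_minimal (U.map π) ((hAp.to_le hUA).map π) (fun L hL hLU => ?_)] at hle
    · intro u hu
      have h1 := mem_centralizer_iff.mp ((QuotientGroup.eq_one_iff _).mp (mem_bot.mp (hle (mem_map_of_mem θ (hBV hb)))))
        (π u) (mem_map_of_mem π hu)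
      rw [← QuotientGroup.eq_one_iff]
      show π (b * u * b⁻¹ * u⁻¹) = 1
      rw [map_mul, map_mul, map_mul, map_inv, map_inv, ← h1, mul_inv_cancel_right, mul_inv_cancel]
    · rcases hchief (L.comap π) (hL.comap π) ((QuotientGroup.ker_mk' V).ge.trans (ker_le_comap π L)) (by
        refine (comap_mono hLU).trans ?_
        rw [comap_map_eq, QuotientGroup.ker_mk', sup_eq_left.mpr hVU.le]) with h | h
      · left; rw [← map_comap_eq_self_of_surjective hπ L, h, QuotientGroup.map_mk'_self]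
      · right; rw [← map_comap_eq_self_of_surjective hπ L, h]
  -- reduce to `U₁ = [U, N₀] Z(A)`
  haveI : (zc A).Normal := inferInstanceAs (A ⊓ centralizer (A : Set G)).Normal
  set U₁ := U₀ ⊔ zc A
  haveI : U₁.Normal := inferInstance
  have hU₁U : U₁ ≤ U := sup_le (commutator_le_left U N₀) (hZV.trans hVU.le)
  have hU₁A : U₁ ≤ A := hU₁U.trans hUA
  have hU : U₁ ⊔ V = U := (hchief _ inferInstance le_sup_right (sup_le hU₁U hVU.le)).resolve_left
    fun h => hU₀ (le_trans (le_trans le_sup_left le_sup_left) h.le)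
  have hU₁V : ⁅U₁, V⁆ = ⊥ := by
    have h1 : ⁅U₀, V⁆ = ⊥ := commutator_commutator_eq_bot_of_rotate
      (by rw [show ⁅N₀, V⁆ = ⊥ from commutator_eq_bot_iff_le_centralizer.mpr le_rfl, commutator_bot_left])
      (by
        rw [commutator_eq_bot_iff_le_centralizer]
        intro x hx
        have hx' : x ∈ zc A := hAA (commutator_mono (hVU.le.trans hUA) hUA hx)
        exact mem_centralizer_iff.mpr fun n hn => ((mem_centralizer_iff.mp hn x (hZV hx')).symm))
    rw [commutator_eq_bot_iff_le_centralizer] at h1 ⊢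
    refine sup_le h1 fun z hz => mem_centralizer_iff.mpr fun v hv => ?_
    exact mem_centralizer_iff.mp hz.2 v ((hVU.le.trans hUA) hv)
  set V₁ := U₁ ⊓ V
  haveI : V₁.Normal := inferInstance
  have hZV₁ : zc A ≤ V₁ := le_inf le_sup_right hZV
  have hcen : ∀ u ∈ U₁, ∀ v ∈ V₁, u * v = v * u := fun u hu v hv =>
    (mem_centralizer_iff.mp ((commutator_eq_bot_iff_le_centralizer.mp hU₁V) hu) v hv.2).symm
  set π := QuotientGroup.mk' V₁ with hπdef
  have hπ : Function.Surjective π := QuotientGroup.mk'_surjective V₁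
  have hker : π.ker = V₁ := QuotientGroup.ker_mk' V₁
  haveI hWn : (U₁.map π).Normal := Subgroup.Normal.map inferInstance π hπ
  set W := U₁.map π
  have hmin : ∀ L : Subgroup (G ⧸ V₁), L.Normal → L ≤ W → L = ⊥ ∨ L = W := by
    intro L hL hLW
    set N := L.comap π
    haveI : N.Normal := hL.comap π
    have hNU : N ≤ U₁ := (comap_mono hLW).trans (by rw [comap_map_eq, hker, sup_eq_left.mpr inf_le_left])
    have hVN : V₁ ≤ N := hker.ge.trans (ker_le_comap π L)
    rcases hchief (N ⊔ V) inferInstance le_sup_right (sup_le (hNU.trans hU₁U) hVU.le) with h | h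
    · left
      rw [← map_comap_eq_self_of_surjective hπ L, Subgroup.map_eq_bot_iff, hker]
      exact le_inf hNU (le_sup_left.trans h.le)
    · right
      rw [← map_comap_eq_self_of_surjective hπ L]
      refine congrArg (Subgroup.map π) (le_antisymm hNU fun u hu => ?_)
      obtain ⟨n, hn, v, hv, rfl⟩ := mem_sup_of_normal_right.mp (h.ge (hU₁U hu))
      have hv' : v ∈ U₁ := by
        have := mul_mem (inv_mem (hNU hn)) hu
        rwa [inv_mul_cancel_left] at this
      exact mul_mem hn (hVN ⟨hv', hv⟩)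
  have hW : W ≠ ⊥ := fun h => by
    rw [Subgroup.map_eq_bot_iff, hker] at h
    exact hU₀ (le_sup_left.trans (h.trans inf_le_right))
  left
  have hbil : ∀ u u' w : G, u ∈ A → u' ∈ A → w ∈ A → ⁅u * u', w⁆ = ⁅u', w⁆ * ⁅u, w⁆ := by
    intro u u' w hu hu' hw
    have h1 : u * ⁅u', w⁆ = ⁅u', w⁆ * u :=
      mem_centralizer_iff.mp (hAA (commutator_mem_commutator hu' hw)).2 u hu
    calc ⁅u * u', w⁆ = u * ⁅u', w⁆ * u⁻¹ * ⁅u, w⁆ := by simp only [commutatorElement_def]; group
      _ = _ := by rw [h1, mul_inv_cancel_right]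
  set H := N₀ ⊔ B
  let R : Subgroup G :=
    { carrier := {u | u ∈ U₁ ∧ ∀ c ∈ B, ∀ w ∈ U₁, Commute c ⁅u, w⁆}
      one_mem' := ⟨one_mem _, fun c _ w _ => by simp [Commute, SemiconjBy]⟩
      mul_mem' := fun {u u'} hu hu' => ⟨mul_mem hu.1 hu'.1, fun c hc w hw => by
        rw [hbil u u' w (hU₁A hu.1) (hU₁A hu'.1) (hU₁A hw)]
        exact (hu'.2 c hc w hw).mul_right (hu.2 c hc w hw)⟩
      inv_mem' := fun {u} hu => ⟨inv_mem hu.1, fun c hc w hw => by
        have h1 := hbil u⁻¹ u w (inv_mem (hU₁A hu.1)) (hU₁A hu.1) (hU₁A hw)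
        rw [inv_mul_cancel, commutatorElement_one_left] at h1
        rw [show ⁅u⁻¹, w⁆ = ⁅u, w⁆⁻¹ from eq_inv_of_mul_eq_one_right h1.symm]
        exact (hu.2 c hc w hw).inv_right⟩ }
  have hRU : R ≤ U₁ := fun u hu => hu.1
  have hRA : R ≤ A := hRU.trans hU₁A
  have hVR : V₁ ≤ R := fun v hv => ⟨hv.1, fun c _ w hw => by
    rw [commutatorElement_eq_one_iff_mul_comm.mpr (hcen w hw v hv).symm]
    exact Commute.one_right c⟩
  have hHR : H ≤ normalizer (R : Set G) := by
    have hgen : ∀ n : G,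
        (∀ u ∈ R, ∀ w ∈ U₁, n * ⁅u, w⁆ * n⁻¹ = ⁅u, w⁆) → ∀ u ∈ R, n * u * n⁻¹ ∈ R := by
      intro n hn u hu
      refine ⟨Normal.conj_mem inferInstance u hu.1 n, fun c hc w hw => ?_⟩
      have hw' : n⁻¹ * w * n ∈ U₁ := by simpa using Normal.conj_mem inferInstance w hw n⁻¹
      have e : ⁅n * u * n⁻¹, w⁆ = n * ⁅u, n⁻¹ * w * n⁆ * n⁻¹ := by simp only [commutatorElement_def]; group
      rw [e, hn u hu _ hw']
      exact hu.2 c hc _ hw'
    refine sup_le (fun n hn => ?_) (fun d hd => ?_)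
    · have hN : ∀ n ∈ N₀, ∀ u ∈ R, n * u * n⁻¹ ∈ R := fun n hn => hgen n fun u hu w hw => by
        have hz : ⁅u, w⁆ ∈ V := hZV (hAA (commutator_mem_commutator (hRA hu) (hU₁A hw)))
        rw [← mem_centralizer_iff.mp hn _ hz, mul_inv_cancel_right]
      exact mem_normalizer_iff.mpr fun x => ⟨hN n hn x, fun hx => by
        simpa [mul_assoc] using hN n⁻¹ (inv_mem hn) _ hx⟩
    · have hD : ∀ d ∈ B, ∀ u ∈ R, d * u * d⁻¹ ∈ R := fun d hd => hgen d fun u hu w hw => by
        rw [(hu.2 d hd w hw).eq, mul_inv_cancel_right]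
      exact mem_normalizer_iff.mpr fun x => ⟨hD d hd x, fun hx => by
        simpa [mul_assoc] using hD d⁻¹ (inv_mem hd) _ hx⟩
  have hBR : ⁅B, R⁆ ≤ zc B := by
    refine htest R ?_ hRA ((le_sup_right (a := N₀)).trans hHR) ?_ ?_
    · rw [mem_classTwo, eq_bot_iff, ← hA2]
      exact commutator_mono (commutator_mono hRA hRA) hRA
    · rw [commutator_eq_bot_iff_le_centralizer, le_centralizer_iff]
      exact commutator_le.mpr fun u hu w hw => mem_centralizer_iff.mpr fun c hc =>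
        (hu.2 c hc w (hRU hw)).eq
    · rw [eq_bot_iff]
      refine (commutator_mono ((commutator_mono le_rfl hRA).trans hBz) hRA).trans ?_
      rw [commutator_zc_self]
  have hquadR : ∀ u ∈ U₁, ⁅b, ⁅b, u⁆⁆ ∈ R := by
    intro u hu
    have h1 : ⁅b, u⁆ ∈ B := by
      rw [commutatorElement_def, mul_assoc, mul_assoc]
      exact mul_mem hb (by
        have := (mem_normalizer_iff.mp (hAB (hU₁A hu)) _).mp (inv_mem hb)
        rwa [mul_assoc] at this)
    have h2 : ⁅b, ⁅b, u⁆⁆ ∈ zc B :=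
      ⟨commutator_le_self B (commutator_mem_commutator hb h1),
        hB2 (commutator_mem_commutator hb h1)⟩
    refine ⟨?_, fun c hc w hw => ?_⟩
    · exact commutator_le_right (zpowers b) U₁ (commutator_mem_commutator (mem_zpowers b)
        (commutator_le_right (zpowers b) U₁ (commutator_mem_commutator (mem_zpowers b) hu)))
    · have hwN : w ∈ normalizer (zc B : Set G) :=
        (hAB.trans (Cfsg.Lib.Thompson.normalizer_le_normalizer_center B)) (hU₁A hw)
      have h3 : ⁅⁅b, ⁅b, u⁆⁆, w⁆ ∈ zc B := by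
        rw [commutatorElement_def, mul_assoc, mul_assoc]
        refine mul_mem h2 ?_
        have := (mem_normalizer_iff.mp hwN _).mp (inv_mem h2)
        rwa [mul_assoc] at this
      exact mem_centralizer_iff.mp h3.2 c hc
  have hpk : IsPGroup p (((pk p V).map π).map (QuotientGroup.mk' ((N₀ ⊔ V₁).map π))) := by
    haveI : ((N₀ ⊔ V₁).map π).Normal := Subgroup.Normal.map inferInstance π hπ
    rintro ⟨_, _, ⟨k, hk, rfl⟩, rfl⟩
    obtain ⟨a, y, -, hy, hay, ⟨j, hj⟩, hcop⟩ := Cfsg.Lib.Transfer.exists_pPart p k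
    refine ⟨j, Subtype.ext ?_⟩
    show QuotientGroup.mk' _ (π k) ^ p ^ j = 1
    rw [← hay, map_mul π, map_mul, show QuotientGroup.mk' ((N₀ ⊔ V₁).map π) (π y) = 1 from
      (QuotientGroup.eq_one_iff _).mpr (mem_map_of_mem π (mem_sup_left (pPart_mem_centralizer hk hy hcop))),
      mul_one, ← map_pow, ← map_pow, ← hj, pow_orderOf_eq_one, map_one, map_one]
  haveI : ((pk p V).map π).Normal := Subgroup.Normal.map inferInstance π hπ
  haveI : ((N₀ ⊔ V₁).map π).Normal := Subgroup.Normal.map inferInstance π hπ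
  have hsoc := soc_eq (W := W) (N := (N₀ ⊔ V₁).map π) (K := (pk p V).map π) hW hmin hpk
    ((H ⊔ V₁).map π) (map_mono (sup_le_sup_right le_sup_left V₁))
    (map_mono (sup_le (sup_le (centralizer_le_pk V) hBV)
      (fun v hv => centralizer_le_pk V ((commutator_eq_bot_iff_le_centralizer.mp hU₁V) hv.1))))
  set β := π b
  have habel : ∀ x ∈ W, ∀ y ∈ W, x * y = y * x := by
    rintro _ ⟨x, hx, rfl⟩ _ ⟨y, hy, rfl⟩
    rw [← commutatorElement_eq_one_iff_mul_comm, ← map_commutatorElement]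
    exact (QuotientGroup.eq_one_iff _).mpr (hZV₁ (hAA (commutator_mem_commutator (hU₁A hx) (hU₁A hy))))
  have hk : ∀ x ∈ W, ⁅β, x⁆ ∈ W := fun x hx => by
    rw [commutatorElement_def]
    exact mul_mem (Normal.conj_mem inferInstance x hx β) (inv_mem hx)
  have hlin : ∀ x ∈ W, ∀ y ∈ W, ⁅β, x * y⁆ = ⁅β, x⁆ * ⁅β, y⁆ := fun x hx y hy => by
    rw [show ⁅β, x * y⁆ = ⁅β, x⁆ * (x * ⁅β, y⁆ * x⁻¹) by simp only [commutatorElement_def]; group,
      habel x hx _ (hk y hy), mul_inv_cancel_right]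
  let F : Subgroup (G ⧸ V₁) :=
    { carrier := {x | x ∈ W ∧ ⁅β, ⁅β, x⁆⁆ = 1}
      one_mem' := ⟨one_mem _, by simp⟩
      mul_mem' := fun {x y} hx hy => ⟨mul_mem hx.1 hy.1, by
        rw [hlin x hx.1 y hy.1, hlin _ (hk x hx.1) _ (hk y hy.1), hx.2, hy.2, one_mul]⟩
      inv_mem' := fun {x} hx => ⟨inv_mem hx.1, by
        have h1 := hlin x hx.1 x⁻¹ (inv_mem hx.1)
        rw [mul_inv_cancel, commutatorElement_one_right] at h1
        have h2 := hlin _ (hk x hx.1) _ (hk _ (inv_mem hx.1))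
        rwa [← h1, commutatorElement_one_right, hx.2, one_mul, eq_comm] at h2⟩ }
  have hWF : W ≤ F := by
    refine hsoc.symm.le.trans (sSup_le fun M hM => ?_)
    obtain ⟨hMW, hM0, hHM, hMmin⟩ := hM
    have hβH : β ∈ (H ⊔ V₁).map π := mem_map_of_mem π (mem_sup_left (mem_sup_right hb))
    intro m hm
    refine ⟨hMW hm, ?_⟩
    by_contra hne
    have hx1 : ⁅β, ⁅β, m⁆⁆ ∈ M := by
      have hkM : ∀ y ∈ M, ⁅β, y⁆ ∈ M := fun y hy => by
        rw [commutatorElement_def]
        exact mul_mem ((mem_normalizer_iff.mp (hHM hβH) y).mp hy) (inv_mem hy)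
      exact hkM _ (hkM _ hm)
    have hx2 : ⁅β, ⁅β, m⁆⁆ ∈ R.map π := by
      obtain ⟨u, hu, rfl⟩ := hMW hm
      rw [← map_commutatorElement, ← map_commutatorElement]
      exact mem_map_of_mem π (hquadR u hu)
    have hHR' : (H ⊔ V₁).map π ≤ normalizer (R.map π : Set (G ⧸ V₁)) :=
      (map_mono (sup_le hHR (hVR.trans le_normalizer))).trans (le_normalizer_map π)
    have hMR : M ≤ R.map π := inf_eq_left.mp ((hMmin (M ⊓ R.map π) inf_le_left
      (Cfsg.Lib.Coprime.le_normalizer_inf hHM hHR')).resolve_left fun h =>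
        hne (mem_bot.mp (h ▸ ⟨hx1, hx2⟩)))
    obtain ⟨r, hr, rfl⟩ := hMR hm
    refine hne ?_
    rw [← map_commutatorElement, ← map_commutatorElement,
      commutatorElement_eq_one_iff_mul_comm.mpr
        (mem_centralizer_iff.mp (hBR (commutator_mem_commutator hb hr)).2 b hb), map_one]
  have hquad : ⁅⁅W, zpowers β⁆, zpowers β⁆ = ⊥ := by
    have hcomm : ∀ m ∈ W, Commute β ⁅β, m⁆ := fun m hm =>
      commutatorElement_eq_one_iff_mul_comm.mp (hWF hm).2
    rw [commutator_eq_bot_iff_le_centralizer, commutator_le]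
    rintro m hm _ ⟨i, rfl⟩
    refine mem_centralizer_iff.mpr ?_
    rintro _ ⟨j, rfl⟩
    refine Commute.zpow_left ?_ j
    have hit : ∀ i : ℤ, Commute (β) ⁅β ^ i, m⁆ := by
      intro i
      induction i with
      | zero => simp [Commute, SemiconjBy]
      | succ i ihi =>
        rw [zpow_add_one, show ⁅β ^ (i : ℤ) * β, m⁆ =
          β ^ (i : ℤ) * ⁅β, m⁆ * (β ^ (i : ℤ))⁻¹ * ⁅β ^ (i : ℤ), m⁆ by
            simp only [commutatorElement_def]; group, ((hcomm m hm).zpow_left _).eq,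
          mul_inv_cancel_right]
        exact (hcomm m hm).mul_right ihi
      | pred i ihi =>
        have h5 : ⁅β ^ (-(i : ℤ)), m⁆ = β ^ (-(i : ℤ) - 1) * ⁅β, m⁆ * (β ^ (-(i : ℤ) - 1))⁻¹ *
            ⁅β ^ (-(i : ℤ) - 1), m⁆ := by
          simp only [commutatorElement_def]; group
        rw [((hcomm m hm).zpow_left _).eq, mul_inv_cancel_right] at h5
        rw [show ⁅β ^ (-(i : ℤ) - 1), m⁆ = ⁅β, m⁆⁻¹ * ⁅β ^ (-(i : ℤ)), m⁆ by rw [h5]; group]
        exact (hcomm m hm).inv_right.mul_right ihi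
    rw [← commutatorElement_inv]
    exact (hit i).inv_right
  rw [← MonoidHom.map_zpowers, ← map_commutator, ← map_commutator, Subgroup.map_eq_bot_iff, hker] at hquad
  set π' := QuotientGroup.mk' V
  have hUU : U.map π' = U₁.map π' := by
    rw [← hU, Subgroup.map_sup, QuotientGroup.map_mk'_self, sup_bot_eq]
  rw [← QuotientGroup.ker_mk' V, ← Subgroup.map_eq_bot_iff, map_commutator, map_commutator, hUU,
    ← map_commutator, ← map_commutator, Subgroup.map_eq_bot_iff, QuotientGroup.ker_mk']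
  exact hquad.trans inf_le_right

/-- an element of `S` outside `O_p`, a candidate, moving a chief factor below `A` quadratically -/
theorem exists_quadratic_moving (S : Sylow p G) {A : Subgroup G} [A.Normal] (hAT : A ≤ Cfsg.pCore p G)
    (hA2 : ⁅⁅A, A⁆, A⁆ = ⊥) (hTA : ⁅Cfsg.pCore p G, A⁆ ≤ zc A)
    (hA5 : ∀ φ : MulAut ↥(Cfsg.pCore p G), (orderOf φ).Coprime p →
      (∀ a : ↥(Cfsg.pCore p G), (a : G) ∈ A → φ a = a) → φ = 1)
    (hc : centralizer (Cfsg.pCore p G : Set G) ≤ Cfsg.pCore p G)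
    (hK : ¬ (Cfsg.inducedFunctor Cfsg.kInfLower (S : Subgroup G)).Normal ∨
      ¬ (Cfsg.inducedFunctor Cfsg.kInfUpper (S : Subgroup G)).Normal) :
    ∃ g : G, g ∈ (S : Subgroup G) ∧ g ∉ Cfsg.pCore p G ∧ Cand A g ∧
      ∃ U V : Subgroup G, Cfsg.IsChiefFactor U V ∧ U ≤ A ∧
        ⁅⁅U, zpowers g⁆, zpowers g⁆ ≤ V ∧ ¬ ⁅U, zpowers g⁆ ≤ V := by
  by_contra hno
  push Not at hno
  set T := Cfsg.pCore p G
  have hTp : IsPGroup p T := Cfsg.Lib.Components.isPGroup_pCore p
  have hAp : IsPGroup p A := hTp.to_le hAT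
  have hCA : centralizer (A : Set G) ≤ T := by
    refine Cfsg.Lib.Components.le_pCore fun ⟨x, hx⟩ => ?_
    obtain ⟨a, y, -, hy, hay, ⟨j, hj⟩, hcop⟩ := Cfsg.Lib.Transfer.exists_pPart p x
    have hyA : y ∈ centralizer (A : Set G) := zpowers_le.mpr hx hy
    let φ : MulAut T := MulAut.conjNormal y
    have hφ : φ = 1 := hA5 φ
      (hcop.coprime_dvd_left (orderOf_map_dvd MulAut.conjNormal y)) fun z hz => Subtype.ext (by
        show ((MulAut.conjNormal y z : T) : G) = z
        rw [MulAut.conjNormal_apply, ← mem_centralizer_iff.mp hyA (z : G) hz,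
          mul_inv_cancel_right])
    have hyT : y ∈ T := hc (mem_centralizer_iff.mpr fun z hz => by
      have h5 : ((MulAut.conjNormal y (⟨z, hz⟩ : T) : T) : G) = z := by
        rw [show MulAut.conjNormal y = φ from rfl, hφ]; rfl
      rw [MulAut.conjNormal_apply] at h5
      conv_lhs => rw [← h5]
      group)
    obtain ⟨i, hi⟩ := IsPGroup.iff_orderOf.mp hTp ⟨y, hyT⟩
    rw [Subgroup.orderOf_mk] at hi
    have hy1 : y = 1 := orderOf_eq_one_iff.mp (Nat.eq_one_of_dvd_coprimes (hcop.pow_right i) dvd_rfl hi.dvd)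
    refine ⟨j, Subtype.ext ?_⟩
    show x ^ p ^ j = 1
    rw [← hay, hy1, mul_one, ← hj, pow_orderOf_eq_one]
  -- quadratic candidates act trivially
  have htriv : ∀ b ∈ (S : Subgroup G), Cand A b → ∀ U V : Subgroup G, Cfsg.IsChiefFactor U V → U ≤ A →
      ⁅⁅U, zpowers b⁆, zpowers b⁆ ≤ V → b ∈ T ∨ ∀ u ∈ U, b * u * b⁻¹ * u⁻¹ ∈ V := by
    intro b hbS hb U V hUV hUA hq
    by_cases hbT : b ∈ T
    · exact Or.inl hbT
    refine Or.inr fun u hu => ?_
    have h1 := hno b hbS hbT hb U V hUV hUA hq (commutator_mem_commutator hu (mem_zpowers b))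
    rw [show b * u * b⁻¹ * u⁻¹ = ⁅u, b⁆⁻¹ by simp only [commutatorElement_def]; group]
    exact inv_mem h1
  have hgood := induced_normal S A hAT hA2 hTA
    (fun A' hA'S hA'2 hAN h3' h4' => climb hAp hCA fun U V _ _ hUV hUA hZ _ b hb =>
      htriv b (hA'S hb) (cand_of_normalized hAN hA'2 h4' hb) U V hUV hUA (by
        rcases hZ with hZ | hZ
        · refine le_trans ?_ (bot_le (a := V))
          rw [← (cand_of_normalized hAN hA'2 h4' hb).2]
          exact commutator_mono (commutator_mono hZ le_rfl) le_rfl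
        · refine le_trans ?_ hZ
          refine le_inf ((commutator_mono (commutator_mono hUA le_rfl) le_rfl).trans
            ((commutator_mono (commutator_le_left A _) le_rfl).trans (commutator_le_left A _))) ?_
          have hbA : zpowers b ≤ A' := zpowers_le.mpr hb
          refine le_trans (commutator_mono ((commutator_mono hUA hbA).trans
            (le_normalizer_iff_commutator_le_right.mp hAN)) hbA) ?_
          exact le_centralizer_iff.mp (commutator_eq_bot_iff_le_centralizer.mp h3')))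
    (fun B hBS hB2 hAB htest => ?_)
  · exact hK.elim (· hgood.1) (· hgood.2)
  have hAzB : A ≤ normalizer (zc B : Set G) := hAB.trans (Cfsg.Lib.Thompson.normalizer_le_normalizer_center B)
  have hzBT : zc B ≤ T := climb hAp hCA fun U V _ _ hUV hUA _ _ z hz =>
    htriv z (hBS (zc_le B hz)) (cand_of_test hAB hB2 htest (zc_le B hz)) U V hUV hUA (by
      refine le_trans ?_ (bot_le (a := V))
      rw [← commutator_zc_self B]
      refine commutator_mono ?_ (zpowers_le.mpr (zc_le B hz))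
      exact (commutator_mono hUA (zpowers_le.mpr hz)).trans (le_normalizer_iff_commutator_le_right.mp hAzB))
  have hBz : ⁅zc B, A⁆ ≤ zc A := (commutator_mono hzBT le_rfl).trans hTA
  refine climb hAp hCA fun U V _ _ hUV hUA hZ hBV b hb => ?_
  have hcand := cand_of_test hAB hB2 htest hb
  rcases hZ with hZ | hZ
  · refine htriv b (hBS hb) hcand U V hUV hUA (le_trans ?_ (bot_le (a := V)))
    rw [← hcand.2]
    exact commutator_mono (commutator_mono hZ le_rfl) le_rfl
  · rcases quad_above hAp hA2 hB2 hAB hBz htest hZ hUV.1 hUA hUV.2.2.2 hBV b hb with h | h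
    · exact htriv b (hBS hb) hcand U V hUV hUA h
    · exact Or.inr h

end Cfsg.Lib.KInf
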