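import Cfsg.Agent.Components.Functor.Sections
import Cfsg.Agent.Thompson.PComplement

/-!
The K-sequence of a `p`-group and the K-infinity subgroups.
-/

set_option linter.style.haveILetI false
set_option linter.unusedSectionVars false

namespace Cfsg.Lib.KInf

open Subgroup
open scoped commutatorElement

universe u

variable {P X : Type u} [Group P] [Group X]

/-- the centre of a subgroup -/
def zc (B : Subgroup P) : Subgroup P := B ⊓ centralizer (B : Set P)

theorem zc_le (B : Subgroup P) : zc B ≤ B := inf_le_left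

theorem commutator_zc_self (B : Subgroup P) : ⁅zc B, B⁆ = ⊥ := by
  rw [commutator_eq_bot_iff_le_centralizer]
  exact inf_le_right

theorem map_zc {f : X →* P} (hf : Function.Injective f) (B : Subgroup X) :
    (zc B).map f = zc (B.map f) := Cfsg.Lib.Thompson.map_inf_centralizer hf.injOn

theorem mem_classTwo {B : Subgroup P} :
    B ∈ Cfsg.classTwoSubgroups P ↔ ⁅⁅B, B⁆, B⁆ = ⊥ := by
  rw [commutator_eq_bot_iff_le_centralizer]; rfl

theorem mem_upper {B Q : Subgroup P} :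
    B ∈ Cfsg.kUpperStarFamily Q ↔ B ∈ Cfsg.classTwoSubgroups P ∧ ⁅B, Q⁆ ≤ zc B := Iff.rfl

theorem mem_lower {B Q : Subgroup P} :
    B ∈ Cfsg.kLowerStarFamily Q ↔ B ∈ Cfsg.classTwoSubgroups P ∧ Q ≤ normalizer (B : Set P) ∧
      ∀ A ∈ Cfsg.classTwoSubgroups P, A ≤ Q → B ≤ normalizer (A : Set P) → ⁅B, ⁅A, A⁆⁆ = ⊥ →
        ⁅⁅zc B, A⁆, A⁆ = ⊥ → ⁅B, A⁆ ≤ zc B := Iff.rfl

theorem lower_anti {Q Q' : Subgroup P} (h : Q ≤ Q') :
    Cfsg.kLowerStarFamily Q' ⊆ Cfsg.kLowerStarFamily Q :=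
  fun _ ⟨hB, hQ, hA⟩ => ⟨hB, h.trans hQ, fun A hA' hAQ => hA A hA' (hAQ.trans h)⟩

theorem upper_anti {Q Q' : Subgroup P} (h : Q ≤ Q') :
    Cfsg.kUpperStarFamily Q' ⊆ Cfsg.kUpperStarFamily Q :=
  fun _ ⟨hB, hQ⟩ => ⟨hB, (commutator_mono le_rfl h).trans hQ⟩

theorem odd_succ (n : ℕ) : Cfsg.kSeqOdd P (n + 1) = sSup (Cfsg.kUpperStarFamily (Cfsg.kSeqEven P n)) := rfl

theorem le_even {n : ℕ} {B : Subgroup P} (h : B ∈ Cfsg.kLowerStarFamily (Cfsg.kSeqOdd P n)) :
    B ≤ Cfsg.kSeqEven P n := le_sSup h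

theorem le_odd {n : ℕ} {B : Subgroup P} (h : B ∈ Cfsg.kUpperStarFamily (Cfsg.kSeqEven P n)) :
    B ≤ Cfsg.kSeqOdd P (n + 1) := le_sSup h

theorem odd_succ_le : ∀ n, Cfsg.kSeqOdd P (n + 1) ≤ Cfsg.kSeqOdd P n
  | 0 => le_top
  | n + 1 => sSup_le_sSup (upper_anti (sSup_le_sSup (lower_anti (odd_succ_le n))))

theorem even_le_succ (n : ℕ) : Cfsg.kSeqEven P n ≤ Cfsg.kSeqEven P (n + 1) :=
  sSup_le_sSup (lower_anti (odd_succ_le n))

theorem even_mono : Monotone (Cfsg.kSeqEven P) := monotone_nat_of_le_succ even_le_succ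

theorem odd_anti : Antitone (Cfsg.kSeqOdd P) := antitone_nat_of_succ_le odd_succ_le

theorem exists_stable [Finite P] : ∃ n, ∀ m, n ≤ m →
    Cfsg.kSeqEven P m = Cfsg.kInfLower P ∧ Cfsg.kSeqOdd P m = Cfsg.kInfUpper P := by
  obtain ⟨n₁, h₁⟩ := WellFoundedGT.monotone_chain_condition (⟨Cfsg.kSeqEven P, even_mono⟩ : ℕ →o Subgroup P)
  obtain ⟨n₂, h₂⟩ := WellFoundedLT.antitone_chain_condition (odd_anti (P := P))
  refine ⟨max n₁ n₂, fun m hm => ⟨le_antisymm (le_iSup (Cfsg.kSeqEven P) m) (iSup_le fun k => ?_),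
    le_antisymm (le_iInf fun k => ?_) (iInf_le (Cfsg.kSeqOdd P) m)⟩⟩
  · rcases le_total k m with h | h
    · exact even_mono h
    · exact ((h₁ k (((le_max_left _ _).trans hm).trans h)).symm.trans (h₁ m ((le_max_left _ _).trans hm))).le
  · rcases le_total k m with h | h
    · exact odd_anti h
    · exact ((h₂ m ((le_max_right _ _).trans hm)).symm.trans (h₂ k (((le_max_right _ _).trans hm).trans h))).le

theorem normal_abelian_classTwo (A : Subgroup P) [IsMulCommutative A] : A ∈ Cfsg.classTwoSubgroups P := by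
  rw [mem_classTwo]
  have h : ⁅A, A⁆ = ⊥ := by
    rw [commutator_eq_bot_iff_le_centralizer]
    exact fun x hx => mem_centralizer_iff.mpr fun y hy =>
      congrArg Subtype.val (mul_comm' (⟨y, hy⟩ : A) ⟨x, hx⟩)
  rw [h, commutator_bot_left]

theorem zc_eq_self (A : Subgroup P) [IsMulCommutative A] : zc A = A :=
  inf_eq_left.mpr fun x hx => mem_centralizer_iff.mpr fun y hy =>
    congrArg Subtype.val (mul_comm' (⟨y, hy⟩ : A) ⟨x, hx⟩)

theorem abelian_mem_lower (A : Subgroup P) [A.Normal] [IsMulCommutative A] (Q : Subgroup P) :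
    A ∈ Cfsg.kLowerStarFamily Q :=
  mem_lower.mpr ⟨normal_abelian_classTwo A, le_normalizer_of_normal, fun B _ _ _ _ _ => by
    rw [zc_eq_self]; exact commutator_le_left A B⟩

theorem abelian_mem_upper (A : Subgroup P) [A.Normal] [IsMulCommutative A] (Q : Subgroup P) :
    A ∈ Cfsg.kUpperStarFamily Q :=
  mem_upper.mpr ⟨normal_abelian_classTwo A, by rw [zc_eq_self]; exact commutator_le_left A Q⟩

/-! ### injective homomorphisms -/

variable {f : X →* P} (hf : Function.Injective f)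
include hf

theorem map_classTwo {B : Subgroup X} :
    B.map f ∈ Cfsg.classTwoSubgroups P ↔ B ∈ Cfsg.classTwoSubgroups X := by
  rw [mem_classTwo, mem_classTwo, ← map_commutator, ← map_commutator, map_eq_bot_iff_of_injective _ hf]

theorem map_normalizer_iff {B A : Subgroup X} :
    B.map f ≤ normalizer (A.map f : Set P) ↔ B ≤ normalizer (A : Set X) := by
  constructor
  · intro h x hx
    rw [mem_normalizer_iff]
    intro y
    have h1 := (mem_normalizer_iff.mp (h (mem_map_of_mem f hx))) (f y)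
    have hiff : ∀ z : X, f z ∈ A.map f ↔ z ∈ A := fun z =>
      ⟨fun ⟨w, hw, e⟩ => hf e ▸ hw, fun hz => mem_map_of_mem f hz⟩
    rw [← map_inv, ← map_mul, ← map_mul, hiff, hiff] at h1
    exact h1
  · exact fun h => (map_mono h).trans (le_normalizer_map f)

theorem map_upper {B Q : Subgroup X} :
    B.map f ∈ Cfsg.kUpperStarFamily (Q.map f) ↔ B ∈ Cfsg.kUpperStarFamily Q := by
  rw [mem_upper, mem_upper, map_classTwo hf, ← map_commutator, ← map_zc hf, map_le_map_iff_of_injective hf]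

theorem map_lower {B Q : Subgroup X} :
    B.map f ∈ Cfsg.kLowerStarFamily (Q.map f) ↔ B ∈ Cfsg.kLowerStarFamily Q := by
  rw [mem_lower, mem_lower, map_classTwo hf, map_normalizer_iff hf]
  refine and_congr_right fun _ => and_congr_right fun _ => ⟨fun h A hA hAQ hBA h1 h2 => ?_, fun h A hA hAQ hBA h1 h2 => ?_⟩
  · have := h (A.map f) ((map_classTwo hf).mpr hA) (map_mono hAQ) ((map_normalizer_iff hf).mpr hBA)
      (by rw [← map_commutator, ← map_commutator, h1, Subgroup.map_bot])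
      (by rw [← map_zc hf, ← map_commutator, ← map_commutator, h2, Subgroup.map_bot])
    rwa [← map_commutator, ← map_zc hf, map_le_map_iff_of_injective hf] at this
  · obtain ⟨A, rfl⟩ : ∃ A' : Subgroup X, A = A'.map f :=
      ⟨A.comap f, (map_comap_eq_self (hAQ.trans (map_le_range f Q))).symm⟩
    rw [map_le_map_iff_of_injective hf] at hAQ
    rw [← map_commutator, ← map_commutator, map_eq_bot_iff_of_injective _ hf] at h1
    rw [← map_zc hf, ← map_commutator, ← map_commutator, map_eq_bot_iff_of_injective _ hf] at h2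
    rw [← map_commutator, ← map_zc hf]
    exact map_mono (h A ((map_classTwo hf).mp hA) hAQ ((map_normalizer_iff hf).mp hBA) h1 h2)

omit hf

theorem map_sSup' (f : X →* P) (𝒦 : Set (Subgroup X)) : (sSup 𝒦).map f = sSup ((Subgroup.map f) '' 𝒦) := by
  rw [sSup_eq_iSup, Subgroup.map_iSup, sSup_image]
  simp only [Subgroup.map_iSup]

/-- comparison with a subgroup containing all later terms -/
theorem compare (Q : Subgroup P)
    (hQ : ∀ n : ℕ, Cfsg.kSeqEven P n ≤ Q ∧ Cfsg.kSeqOdd P (n + 1) ≤ Q) :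
    ∀ n, ((Cfsg.kSeqOdd Q n).map Q.subtype ≤ Cfsg.kSeqOdd P n ∧
        Cfsg.kSeqEven P n ≤ (Cfsg.kSeqEven Q n).map Q.subtype) ∧
      (Cfsg.kSeqOdd P (n + 1) ≤ (Cfsg.kSeqOdd Q n).map Q.subtype ∧
        (Cfsg.kSeqEven Q n).map Q.subtype ≤ Cfsg.kSeqEven P (n + 1)) := by
  have hinj := Q.subtype_injective
  have hback : ∀ B : Subgroup P, B ≤ Q → (B.subgroupOf Q).map Q.subtype = B := fun B hB => by
    rw [subgroupOf_map_subtype, inf_eq_left.mpr hB]
  have hev1 : ∀ n, (Cfsg.kSeqOdd Q n).map Q.subtype ≤ Cfsg.kSeqOdd P n →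
      Cfsg.kSeqEven P n ≤ (Cfsg.kSeqEven Q n).map Q.subtype := by
    intro n h
    refine sSup_le fun B hB => ?_
    have hBQ : B ≤ Q := (le_even hB).trans (hQ n).1
    have hB' := lower_anti h hB
    rw [← hback B hBQ, map_lower hinj] at hB'
    rw [← hback B hBQ]
    exact map_mono (le_even hB')
  have hev2 : ∀ n, Cfsg.kSeqOdd P (n + 1) ≤ (Cfsg.kSeqOdd Q n).map Q.subtype →
      (Cfsg.kSeqEven Q n).map Q.subtype ≤ Cfsg.kSeqEven P (n + 1) := by
    intro n h
    show (sSup (Cfsg.kLowerStarFamily (Cfsg.kSeqOdd Q n)) : Subgroup Q).map Q.subtype ≤ _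
    rw [map_sSup']
    refine sSup_le ?_
    rintro _ ⟨B, hB, rfl⟩
    exact le_even (lower_anti h ((map_lower hinj).mpr hB))
  suffices key : ∀ n, (Cfsg.kSeqOdd Q n).map Q.subtype ≤ Cfsg.kSeqOdd P n ∧
      Cfsg.kSeqOdd P (n + 1) ≤ (Cfsg.kSeqOdd Q n).map Q.subtype from
    fun n => ⟨⟨(key n).1, hev1 n (key n).1⟩, (key n).2, hev2 n (key n).2⟩
  intro n
  induction n with
  | zero =>
    refine ⟨le_top, ?_⟩
    show _ ≤ (⊤ : Subgroup Q).map Q.subtype
    rw [← MonoidHom.range_eq_map, range_subtype]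
    exact (hQ 0).2
  | succ n ih =>
    refine ⟨?_, sSup_le fun B hB => ?_⟩
    · show (sSup (Cfsg.kUpperStarFamily (Cfsg.kSeqEven Q n)) : Subgroup Q).map Q.subtype ≤ _
      rw [map_sSup']
      refine sSup_le ?_
      rintro _ ⟨B, hB, rfl⟩
      exact le_odd (upper_anti (hev1 n ih.1) ((map_upper hinj).mpr hB))
    · have hBQ : B ≤ Q := (le_odd hB).trans (hQ (n + 1)).2
      have hB' := upper_anti (hev2 n ih.2) hB
      rw [← hback B hBQ] at hB' ⊢
      exact map_mono (le_odd ((map_upper hinj).mp hB'))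

theorem map_kInf_of_le (Q : Subgroup P)
    (hQ : ∀ n : ℕ, Cfsg.kSeqEven P n ≤ Q ∧ Cfsg.kSeqOdd P (n + 1) ≤ Q) :
    (Cfsg.kInfLower Q).map Q.subtype = Cfsg.kInfLower P ∧
      (Cfsg.kInfUpper Q).map Q.subtype = Cfsg.kInfUpper P := by
  have h := compare Q hQ
  constructor
  · rw [Cfsg.kInfLower, Subgroup.map_iSup]
    exact le_antisymm (iSup_le fun n => (h n).2.2.trans (le_iSup (Cfsg.kSeqEven P) (n + 1)))
      (iSup_le fun n => (h n).1.2.trans (le_iSup (fun n => (Cfsg.kSeqEven Q n).map Q.subtype) n))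
  · rw [Cfsg.kInfUpper, Subgroup.map_iInf _ Q.subtype_injective]
    exact le_antisymm (le_iInf fun n => (iInf_le _ n).trans (h n).1.1)
      (le_iInf fun n => (iInf_le (Cfsg.kSeqOdd P) (n + 1)).trans (h n).2.1)

theorem map_seq (e : X ≃* P) : ∀ n, (Cfsg.kSeqOdd X n).map e.toMonoidHom = Cfsg.kSeqOdd P n ∧
    (Cfsg.kSeqEven X n).map e.toMonoidHom = Cfsg.kSeqEven P n := by
  have hinj : Function.Injective e.toMonoidHom := e.injective
  have hsurj : ∀ B : Subgroup P, (B.comap e.toMonoidHom).map e.toMonoidHom = B := fun B =>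
    map_comap_eq_self_of_surjective e.surjective B
  have hlow : ∀ Q : Subgroup X, (sSup (Cfsg.kLowerStarFamily Q)).map e.toMonoidHom =
      sSup (Cfsg.kLowerStarFamily (Q.map e.toMonoidHom)) := fun Q => by
    rw [map_sSup']
    congr 1
    ext B
    constructor
    · rintro ⟨B, hB, rfl⟩; exact (map_lower hinj).mpr hB
    · intro hB
      exact ⟨_, (map_lower hinj).mp ((hsurj B).symm ▸ hB), hsurj B⟩
  have hup : ∀ Q : Subgroup X, (sSup (Cfsg.kUpperStarFamily Q)).map e.toMonoidHom =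
      sSup (Cfsg.kUpperStarFamily (Q.map e.toMonoidHom)) := fun Q => by
    rw [map_sSup']
    congr 1
    ext B
    constructor
    · rintro ⟨B, hB, rfl⟩; exact (map_upper hinj).mpr hB
    · intro hB
      exact ⟨_, (map_upper hinj).mp ((hsurj B).symm ▸ hB), hsurj B⟩
  intro n
  induction n with
  | zero =>
    have h0 : (Cfsg.kSeqOdd X 0).map e.toMonoidHom = Cfsg.kSeqOdd P 0 := map_top_of_surjective _ e.surjective
    exact ⟨h0, (hlow _).trans (by rw [h0]; rfl)⟩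
  | succ n ih =>
    have h1 : (Cfsg.kSeqOdd X (n + 1)).map e.toMonoidHom = Cfsg.kSeqOdd P (n + 1) :=
      (hup _).trans (congrArg (fun Q => sSup (Cfsg.kUpperStarFamily Q)) ih.2)
    exact ⟨h1, (hlow _).trans (by rw [h1]; rfl)⟩

theorem map_kInfLower (e : X ≃* P) : (Cfsg.kInfLower X).map e.toMonoidHom = Cfsg.kInfLower P := by
  rw [Cfsg.kInfLower, Subgroup.map_iSup]
  exact iSup_congr fun n => (map_seq e n).2

theorem map_kInfUpper (e : X ≃* P) : (Cfsg.kInfUpper X).map e.toMonoidHom = Cfsg.kInfUpper P := by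
  rw [Cfsg.kInfUpper, Subgroup.map_iInf _ (show Function.Injective e.toMonoidHom from e.injective)]
  exact iInf_congr fun n => (map_seq e n).1

theorem center_le_lower : Subgroup.center P ≤ Cfsg.kInfLower P :=
  (le_even (n := 0) (abelian_mem_lower (Subgroup.center P) _)).trans (le_iSup (Cfsg.kSeqEven P) 0)

theorem center_le_upper : Subgroup.center P ≤ Cfsg.kInfUpper P := le_iInf fun n => by
  cases n with
  | zero => exact le_top
  | succ n => exact le_odd (abelian_mem_upper (Subgroup.center P) _)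

theorem isCharPFunctor_lower {p : ℕ} [Fact p.Prime] : Cfsg.IsCharPFunctor.{u} p Cfsg.kInfLower := by
  refine ⟨fun Q _ _ hQ _ h => ?_, fun Q R _ _ _ _ φ => map_kInfLower φ⟩
  haveI := hQ.center_nontrivial
  exact (nontrivial_iff_ne_bot (Subgroup.center Q)).mp inferInstance (le_bot_iff.mp (h ▸ center_le_lower))

theorem isCharPFunctor_upper {p : ℕ} [Fact p.Prime] : Cfsg.IsCharPFunctor.{u} p Cfsg.kInfUpper := by
  refine ⟨fun Q _ _ hQ _ h => ?_, fun Q R _ _ _ _ φ => map_kInfUpper φ⟩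
  haveI := hQ.center_nontrivial
  exact (nontrivial_iff_ne_bot (Subgroup.center Q)).mp inferInstance (le_bot_iff.mp (h ▸ center_le_upper))

/-- all terms lie in `T` -/
theorem terms_le (T A : Subgroup P) [A.Normal] (hA2 : A ∈ Cfsg.classTwoSubgroups P) (hTA : ⁅A, T⁆ ≤ zc A)
    (hA' : ∀ A' ∈ Cfsg.classTwoSubgroups P, A ≤ normalizer (A' : Set P) → ⁅A, ⁅A', A'⁆⁆ = ⊥ →
      ⁅⁅zc A, A'⁆, A'⁆ = ⊥ → A' ≤ T)
    (hB : ∀ B ∈ Cfsg.classTwoSubgroups P, A ≤ normalizer (B : Set P) →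
      (∀ A' ∈ Cfsg.classTwoSubgroups P, A' ≤ A → B ≤ normalizer (A' : Set P) → ⁅B, ⁅A', A'⁆⁆ = ⊥ →
        ⁅⁅zc B, A'⁆, A'⁆ = ⊥ → ⁅B, A'⁆ ≤ zc B) → B ≤ T) :
    ∀ n, Cfsg.kSeqEven P n ≤ T ∧ Cfsg.kSeqOdd P (n + 1) ≤ T := by
  have hlow : ∀ n, A ≤ Cfsg.kSeqOdd P n → Cfsg.kSeqEven P n ≤ T := fun n hAQ => sSup_le fun B hBm => by
    obtain ⟨h1, h2, h3⟩ := mem_lower.mp hBm
    exact hB B h1 (hAQ.trans h2) fun A' hA'2 hA'A => h3 A' hA'2 (hA'A.trans hAQ)
  have hA0 : A ≤ Cfsg.kSeqEven P 0 := le_even (n := 0) (mem_lower.mpr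
    ⟨hA2, le_normalizer_of_normal, fun A' hA'2 _ hN h1 h2 =>
      (commutator_mono le_rfl (hA' A' hA'2 hN h1 h2)).trans hTA⟩)
  have hup : ∀ n, Cfsg.kSeqOdd P (n + 1) ≤ T := fun n => sSup_le fun B hBm => by
    obtain ⟨h1, h2⟩ := mem_upper.mp hBm
    have hAQ : A ≤ Cfsg.kSeqEven P n := hA0.trans (even_mono (Nat.zero_le n))
    refine hB B h1 (le_normalizer_iff_commutator_le_left.mpr ?_) fun A' _ hA'A _ _ _ =>
      (commutator_mono le_rfl (hA'A.trans hAQ)).trans h2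
    exact ((commutator_mono le_rfl hAQ).trans h2).trans (zc_le B)
  intro n
  induction n with
  | zero => exact ⟨hlow 0 le_top, hup 0⟩
  | succ n ih => exact ⟨hlow _ (le_odd (mem_upper.mpr ⟨hA2, (commutator_mono le_rfl ih.1).trans hTA⟩)), hup _⟩

end Cfsg.Lib.KInf
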