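import Cfsg.Agent.Components.Functor.Fusion
import Cfsg.Agent.Components.KInf.Stable

/-!
The K-infinity subgroups control strong fusion in groups all whose sections are stable.
-/

set_option linter.style.haveILetI false

namespace Cfsg.Lib.KInf

open Subgroup
open Cfsg.Lib.Functor (IsSection CtrlAll)

universe u

variable {p : ℕ} [Fact p.Prime] {G : Type u} [Group G] [Finite G]

/-- stability of all quotient sections, seen on an abstract section -/
theorem stable_of_section
    (hst : ∀ (K R : Subgroup G) [(R.subgroupOf K).Normal], Cfsg.IsNormalizerPStable p (↥K ⧸ R.subgroupOf K))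
    {L : Type u} [Group L] [Finite L] (hL : IsSection L G) : Cfsg.IsNormalizerPStable p L := by
  obtain ⟨K, R, hR, ⟨e⟩⟩ := hL.exists_quotient
  haveI := hR
  exact normalizerPStable_of_injective e.symm.toMonoidHom e.symm.injective (hst K R)

theorem kInf_ctrlAll
    (hst : ∀ (K R : Subgroup G) [(R.subgroupOf K).Normal], Cfsg.IsNormalizerPStable p (↥K ⧸ R.subgroupOf K)) :
    CtrlAll p {Cfsg.kInfLower} G ∧ CtrlAll p {Cfsg.kInfUpper} G := by
  have key : ∀ (L : Type u) [Group L] [Finite L], IsSection L G →
      centralizer (Cfsg.pCore p L : Set L) ≤ Cfsg.pCore p L → ∀ T : Sylow p L,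
      (Cfsg.inducedFunctor Cfsg.kInfLower (T : Subgroup L)).Normal ∧
        (Cfsg.inducedFunctor Cfsg.kInfUpper (T : Subgroup L)).Normal := fun L _ _ hL hc T =>
    kInf_normal (fun N _ => stable_of_section hst ((IsSection.quotient N).trans hL)) hc T
  refine ⟨Cfsg.Lib.Functor.ctrl_main (fun W hW => by rw [Set.mem_singleton_iff.mp hW]; exact isCharPFunctor_lower)
    _ G rfl fun L _ _ hL hc => Cfsg.Lib.Functor.ctrlAll_of_normal fun T => (key L hL hc T).1,
    Cfsg.Lib.Functor.ctrl_main (fun W hW => by rw [Set.mem_singleton_iff.mp hW]; exact isCharPFunctor_upper)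
    _ G rfl fun L _ _ hL hc => Cfsg.Lib.Functor.ctrlAll_of_normal fun T => (key L hL hc T).2⟩

end Cfsg.Lib.KInf
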