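import Cfsg.Agent.Components.KInf.Stable

/-!
Degrees of action on the chief factors below `O_p` when a K-infinity subgroup is not normal.
-/

set_option linter.style.haveILetI false
set_option linter.unusedSectionVars false

namespace Cfsg.Lib.KInf

open Subgroup
open scoped commutatorElement

universe u

variable {G : Type u} [Group G] [Finite G] {p : ℕ} [Fact p.Prime]

/-- the candidates: cubic on `A`, quadratic on `Z(A)` -/
def Cand (A : Subgroup G) (g : G) : Prop :=
  Cfsg.iterCommutator A (zpowers g) 3 = ⊥ ∧ ⁅⁅zc A, zpowers g⁆, zpowers g⁆ = ⊥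

theorem cand_of_normalized {A A' : Subgroup G} (hAN : A ≤ normalizer (A' : Set G))
    (hA'2 : A' ∈ Cfsg.classTwoSubgroups G) (hq : ⁅⁅zc A, A'⁆, A'⁆ = ⊥) {g : G} (hg : g ∈ A') : Cand A g := by
  have hgA' : zpowers g ≤ A' := zpowers_le.mpr hg
  refine ⟨le_bot_iff.mp ?_, le_bot_iff.mp ((commutator_mono (commutator_mono le_rfl hgA') hgA').trans hq.le)⟩
  show ⁅⁅⁅A, zpowers g⁆, zpowers g⁆, zpowers g⁆ ≤ ⊥
  rw [← mem_classTwo.mp hA'2]
  refine commutator_mono (commutator_mono ?_ hgA') hgA'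
  exact (commutator_mono le_rfl hgA').trans (le_normalizer_iff_commutator_le_right.mp hAN)

theorem cand_of_test {A B : Subgroup G} [A.Normal] (hAB : A ≤ normalizer (B : Set G))
    (hB2 : B ∈ Cfsg.classTwoSubgroups G)
    (htest : ∀ A' ∈ Cfsg.classTwoSubgroups G, A' ≤ A → B ≤ normalizer (A' : Set G) → ⁅B, ⁅A', A'⁆⁆ = ⊥ →
        ⁅⁅zc B, A'⁆, A'⁆ = ⊥ → ⁅B, A'⁆ ≤ zc B) {g : G} (hg : g ∈ B) : Cand A g := by
  haveI : (zc A).Normal := inferInstanceAs (A ⊓ centralizer (A : Set G)).Normal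
  haveI : IsMulCommutative (zc A) := ⟨⟨fun x y => Subtype.ext (mem_centralizer_iff.mp y.2.2 x x.2.1)⟩⟩
  have hgB : zpowers g ≤ B := zpowers_le.mpr hg
  have h := htest (zc A) (normal_abelian_classTwo _) (zc_le A) le_normalizer_of_normal
    (by
      rw [show ⁅zc A, zc A⁆ = ⊥ from le_bot_iff.mp
        ((commutator_mono le_rfl (zc_le A)).trans (commutator_zc_self A).le), commutator_bot_right])
    (le_bot_iff.mp ((commutator_mono (commutator_le_right (zc B) (zc A)) (zc_le A)).trans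
      (commutator_zc_self A).le))
  refine ⟨le_bot_iff.mp ?_, le_bot_iff.mp ?_⟩
  · show ⁅⁅⁅A, zpowers g⁆, zpowers g⁆, zpowers g⁆ ≤ ⊥
    rw [← mem_classTwo.mp hB2]
    refine commutator_mono (commutator_mono ?_ hgB) hgB
    exact (commutator_mono le_rfl hgB).trans (le_normalizer_iff_commutator_le_right.mp hAB)
  · rw [← commutator_zc_self B]
    refine commutator_mono ?_ hgB
    rw [commutator_comm] at h
    exact (commutator_mono le_rfl hgB).trans h

/-- without candidates outside `O_p` both K-infinity subgroups are normal -/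
theorem normal_of_no_cand (S : Sylow p G) (A : Subgroup G) [A.Normal] (hAT : A ≤ Cfsg.pCore p G)
    (hA2 : ⁅⁅A, A⁆, A⁆ = ⊥) (hTA : ⁅Cfsg.pCore p G, A⁆ ≤ zc A)
    (h : ∀ g ∈ (S : Subgroup G), Cand A g → g ∈ Cfsg.pCore p G) :
    (Cfsg.inducedFunctor Cfsg.kInfLower (S : Subgroup G)).Normal ∧
      (Cfsg.inducedFunctor Cfsg.kInfUpper (S : Subgroup G)).Normal :=
  induced_normal S A hAT hA2 hTA
    (fun A' hA'S hA'2 hAN _ h4 g hg => h g (hA'S hg) (cand_of_normalized hAN hA'2 h4 hg))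
    (fun B hBS hB2 hAB htest g hg => h g (hBS hg) (cand_of_test hAB hB2 htest hg))

/-- three subgroups for a central pairing -/
theorem pairing_step {T C W X Y : Subgroup G} [T.Normal] (g : G) (hC : C ≤ centralizer (T : Set G))
    (hWC : W ≤ C) (hWg : zpowers g ≤ normalizer (W : Set G)) (hXT : X ≤ T) (hYT : Y ≤ T)
    (hXY : ⁅X, Y⁆ ≤ C) (hXYg : ⁅X, ⁅Y, zpowers g⁆⁆ ≤ W) (hg : ⁅⁅X, Y⁆, zpowers g⁆ ≤ W) :
    ⁅⁅X, zpowers g⁆, Y⁆ ≤ W := by
  have hcen : ∀ c ∈ C, ∀ t ∈ T, t * c = c * t := fun c hc t ht => mem_centralizer_iff.mp (hC hc) t ht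
  let F : Subgroup G :=
    { carrier := {z | z ∈ T ∧ ∀ y ∈ Y, ⁅z, y⁆ ∈ W}
      one_mem' := ⟨one_mem _, fun y _ => by simp⟩
      mul_mem' := fun {a b} ha hb => ⟨mul_mem ha.1 hb.1, fun y hy => by
        rw [show ⁅a * b, y⁆ = a * ⁅b, y⁆ * a⁻¹ * ⁅a, y⁆ by simp only [commutatorElement_def]; group,
          hcen _ (hWC (hb.2 y hy)) a ha.1, mul_inv_cancel_right]
        exact mul_mem (hb.2 y hy) (ha.2 y hy)⟩
      inv_mem' := fun {a} ha => ⟨inv_mem ha.1, fun y hy => by
        rw [show ⁅a⁻¹, y⁆ = a⁻¹ * ⁅a, y⁆⁻¹ * a by simp only [commutatorElement_def]; group,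
          hcen _ (hWC (inv_mem (ha.2 y hy))) a⁻¹ (inv_mem ha.1), inv_mul_cancel_right]
        exact inv_mem (ha.2 y hy)⟩ }
  suffices hXF : ⁅X, zpowers g⁆ ≤ F from commutator_le.mpr fun z hz y hy => (hXF hz).2 y hy
  refine commutator_le.mpr fun x hx h hh => ⟨?_, fun y hy => ?_⟩
  · exact commutator_le_left T (zpowers g) (commutator_mem_commutator (hXT hx) hh)
  set x' := h * x⁻¹ * h⁻¹
  set y' := ⁅h⁻¹, y⁆
  have hx'T : x' ∈ T := Normal.conj_mem inferInstance _ (inv_mem (hXT hx)) h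
  have hy' : y' ∈ ⁅Y, zpowers g⁆ := by
    rw [commutator_comm]; exact commutator_mem_commutator (inv_mem hh) hy
  have hy'T : y' ∈ T := commutator_le_left T (zpowers g) (commutator_mono hYT le_rfl hy')
  have hw : ⁅x, y'⁆ ∈ W := hXYg (commutator_mem_commutator hx hy')
  have hz : ⁅x, y⁆ ∈ C := hXY (commutator_mem_commutator hx hy)
  have hwz : ⁅⁅x, y⁆, h⁆ ∈ W := hg (commutator_mem_commutator (commutator_mem_commutator hx hy) hh)
  have e2 : ⁅x, y' * y⁆ = ⁅x, y'⁆ * ⁅x, y⁆ := by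
    rw [show ⁅x, y' * y⁆ = ⁅x, y'⁆ * (y' * ⁅x, y⁆ * y'⁻¹) by simp only [commutatorElement_def]; group,
      hcen _ hz y' hy'T, mul_inv_cancel_right]
  have e3 : ⁅x', y⁆ = h * (x⁻¹ * ⁅x, y' * y⁆⁻¹ * x) * h⁻¹ := by
    simp only [x', y', commutatorElement_def]; group
  rw [e2, hcen _ (inv_mem (mul_mem (hWC hw) hz)) x⁻¹ (inv_mem (hXT hx)), inv_mul_cancel_right] at e3
  have hx'y : ⁅x', y⁆ ∈ centralizer (T : Set G) := by
    rw [e3]; exact Normal.conj_mem (inferInstance : (centralizer (T : Set G)).Normal) _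
      (hC (inv_mem (mul_mem (hWC hw) hz))) h
  have e1 : ⁅⁅x, h⁆, y⁆ = ⁅x', y⁆ * ⁅x, y⁆ := by
    rw [show ⁅x, h⁆ = x * x' by simp only [x', commutatorElement_def]; group,
      show ⁅x * x', y⁆ = x * ⁅x', y⁆ * x⁻¹ * ⁅x, y⁆ by simp only [commutatorElement_def]; group,
      mem_centralizer_iff.mp hx'y x (hXT hx), mul_inv_cancel_right]
  rw [e1, e3]
  have hconj : ∀ w ∈ W, h * w * h⁻¹ ∈ W := fun w hw' => (mem_normalizer_iff.mp (hWg hh) w).mp hw'
  have e5 : h * (⁅x, y'⁆ * ⁅x, y⁆)⁻¹ * h⁻¹ * ⁅x, y⁆ =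
      (h * ⁅x, y⁆⁻¹ * h⁻¹ * ⁅x, y⁆) * (⁅x, y⁆⁻¹ * (h * ⁅x, y'⁆⁻¹ * h⁻¹) * ⁅x, y⁆) := by group
  have hwC : h * ⁅x, y'⁆⁻¹ * h⁻¹ ∈ W := hconj _ (inv_mem hw)
  have hzT : ⁅x, y⁆ ∈ T := by
    rw [commutatorElement_def]
    exact mul_mem (mul_mem (mul_mem (hXT hx) (hYT hy)) (inv_mem (hXT hx))) (inv_mem (hYT hy))
  rw [e5, hcen _ (hWC hwC) _ (inv_mem hzT), inv_mul_cancel_right]
  refine mul_mem ?_ hwC
  rw [show h * ⁅x, y⁆⁻¹ * h⁻¹ * ⁅x, y⁆ = ⁅x, y⁆⁻¹ * (⁅⁅x, y⁆, h⁆) * ⁅x, y⁆ by
    simp only [commutatorElement_def ⁅x, y⁆ h]; group]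
  rw [hcen _ (hWC hwz) _ (inv_mem hzT), inv_mul_cancel_right]
  exact hwz

/-- degree four on a layer -/
theorem degree_four_layer {T K A C : Subgroup G} [T.Normal] [K.Normal] [A.Normal] [C.Normal] (g : G)
    (hC : C ≤ centralizer (T : Set G)) (hKT : K ≤ T) (hAT : A ≤ T) (hKA : ⁅K, A⁆ ≤ C)
    (hq : ⁅⁅C, zpowers g⁆, zpowers g⁆ = ⊥) (hA : Cfsg.iterCommutator A (zpowers g) 3 = ⊥) :
    ⁅Cfsg.iterCommutator K (zpowers g) 4, A⁆ = ⊥ := by
  have hit : ∀ (M : Subgroup G) [M.Normal] (i : ℕ), Cfsg.iterCommutator M (zpowers g) i ≤ M := by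
    intro M _ i
    induction i with
    | zero => exact le_rfl
    | succ i ih => exact (commutator_mono ih le_rfl).trans (commutator_le_left M _)
  set W₁ := C ⊓ centralizer (zpowers g : Set G)
  have hW₁g : ⁅W₁, zpowers g⁆ = ⊥ := commutator_eq_bot_iff_le_centralizer.mpr inf_le_right
  have hgW₁ : zpowers g ≤ normalizer (W₁ : Set G) := (le_centralizer_iff.mp inf_le_right).trans
    (Cfsg.Lib.Thompson.centralizer_le_normalizer W₁)
  have hXY : ∀ i j, ⁅Cfsg.iterCommutator K (zpowers g) i, Cfsg.iterCommutator A (zpowers g) j⁆ ≤ C :=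
    fun i j => (commutator_mono (hit K i) (hit A j)).trans hKA
  have hCg : ⁅C, zpowers g⁆ ≤ W₁ :=
    le_inf (commutator_le_left C _) (commutator_eq_bot_iff_le_centralizer.mp hq)
  have main : ∀ i j, (3 ≤ i + j →
        ⁅Cfsg.iterCommutator K (zpowers g) i, Cfsg.iterCommutator A (zpowers g) j⁆ ≤ W₁) ∧
      (4 ≤ i + j → ⁅Cfsg.iterCommutator K (zpowers g) i, Cfsg.iterCommutator A (zpowers g) j⁆ ≤ ⊥) := by
    intro i
    induction i with
    | zero =>
      intro j
      refine ⟨fun h => ?_, fun h => ?_⟩ <;>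
        rw [Cfsg.Lib.Degree.iterCommutator_eq_bot_of_le (by omega) hA, commutator_bot_right] <;> exact bot_le
    | succ i ih =>
      intro j
      refine ⟨fun h => ?_, fun h => ?_⟩
      · exact pairing_step g hC inf_le_left hgW₁ ((hit K i).trans hKT) ((hit A j).trans hAT) (hXY i j)
          ((ih (j + 1)).1 (by omega)) ((commutator_mono (hXY i j) le_rfl).trans hCg)
      · exact pairing_step g hC bot_le (by rw [normalizer_eq_top]; exact le_top) ((hit K i).trans hKT)
          ((hit A j).trans hAT) (hXY i j) ((ih (j + 1)).2 (by omega))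
          ((commutator_mono ((ih j).1 (by omega)) le_rfl).trans hW₁g.le)
  exact le_bot_iff.mp ((main 4 0).2 (le_refl 4))

theorem iter_map {H : Type u} [Group H] (f : G →* H) (N B : Subgroup G) (i : ℕ) :
    (Cfsg.iterCommutator N B i).map f = Cfsg.iterCommutator (N.map f) (B.map f) i :=
  Cfsg.Lib.Degree.map_iterCommutator f N B i

theorem iter_le_of_le_sup {U X V : Subgroup G} [V.Normal] (g : G) (h : U ≤ X ⊔ V) {i : ℕ}
    (hX : Cfsg.iterCommutator X (zpowers g) i ≤ V) : Cfsg.iterCommutator U (zpowers g) i ≤ V := by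
  rw [← QuotientGroup.ker_mk' V, ← Subgroup.map_eq_bot_iff, iter_map] at hX ⊢
  refine le_bot_iff.mp (le_trans (Cfsg.Lib.Degree.iterCommutator_mono ?_ _ i) hX.le)
  have h1 := map_mono (f := QuotientGroup.mk' V) h
  rwa [Subgroup.map_sup, QuotientGroup.map_mk'_self, sup_bot_eq] at h1

/-- the descending layers of `Z(A)` reach the trivial group -/
theorem exists_iter_eq_bot {T : Subgroup G} (hT : IsPGroup p T) {Z : Subgroup G} (hZ : Z ≤ T) :
    ∃ n, Cfsg.iterCommutator Z T n = ⊥ := by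
  haveI := hT.isNilpotent
  obtain ⟨n, hn⟩ := (Subgroup.isNilpotent_iff_lowerCentralSeries T).mp inferInstance
  have hiter : ∀ i, Cfsg.iterCommutator T T i = T.lowerCentralSeries i := by
    intro i
    induction i with
    | zero => rfl
    | succ i ih => show ⁅_, _⁆ = _; rw [ih]; rfl
  exact ⟨n, le_bot_iff.mp ((Cfsg.Lib.Degree.iterCommutator_mono hZ T n).trans ((hiter n).trans hn).le)⟩

/-- candidates have degree four on the chief factors below `T` -/
theorem degree_four_chief {T A : Subgroup G} [T.Normal] [A.Normal] (hTp : IsPGroup p T) (hAT : A ≤ T)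
    (hTA : ⁅T, A⁆ ≤ zc A) (hCA : T ⊓ centralizer (A : Set G) ≤ zc A) {g : G} (hg : Cand A g)
    {U V : Subgroup G} (hUV : Cfsg.IsChiefFactor U V) (hUT : U ≤ T) :
    Cfsg.iterCommutator U (zpowers g) 4 ≤ V := by
  obtain ⟨hlt, hUn, hVn, hmin⟩ := hUV
  haveI := hUn
  haveI := hVn
  haveI hZn : (zc A).Normal := inferInstanceAs (A ⊓ centralizer (A : Set G)).Normal
  by_contra hno
  have hsplit : ∀ X : Subgroup G, X.Normal → U ⊓ X ≤ V ∨ U ≤ (U ⊓ X) ⊔ V := fun X hX => by
    haveI := hX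
    rcases hmin ((U ⊓ X) ⊔ V) inferInstance le_sup_right (sup_le inf_le_left hlt.le) with h | h
    · exact Or.inl (le_sup_left.trans h.le)
    · exact Or.inr h.ge
  rcases hsplit (zc A) hZn with hZ | hZ
  swap
  · refine hno (iter_le_of_le_sup g hZ ((Cfsg.Lib.Degree.iterCommutator_mono inf_le_right _ 4).trans ?_))
    exact (Cfsg.Lib.Degree.iterCommutator_eq_bot_of_le (i := 2) (by omega) hg.2).le.trans bot_le
  let Zs : ℕ → Subgroup G := fun i => Cfsg.iterCommutator (zc A) T i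
  have hZs : ∀ i, (Zs i).Normal := fun i => by
    induction i with
    | zero => exact hZn
    | succ i ih => haveI := ih; exact commutator_normal (Zs i) T
  have hZle : ∀ i, Zs i ≤ zc A := fun i => by
    induction i with
    | zero => exact le_rfl
    | succ i ih => haveI := hZn; exact (commutator_mono ih le_rfl).trans (commutator_le_left (zc A) T)
  have hlayer : ∀ i, ∀ X : Subgroup G, X.Normal → X ≤ T → ⁅X, A⁆ ≤ Zs i →
      ⁅Cfsg.iterCommutator X (zpowers g) 4, A⁆ ≤ Zs (i + 1) := by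
    intro i X hX hXT hXA
    haveI := hX
    haveI := hZs i
    haveI := hZs (i + 1)
    set π := QuotientGroup.mk' (Zs (i + 1))
    have hπ : Function.Surjective π := QuotientGroup.mk'_surjective _
    haveI : (T.map π).Normal := Subgroup.Normal.map inferInstance π hπ
    haveI : (A.map π).Normal := Subgroup.Normal.map inferInstance π hπ
    haveI : (X.map π).Normal := Subgroup.Normal.map inferInstance π hπ
    haveI : ((Zs i).map π).Normal := Subgroup.Normal.map inferInstance π hπ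
    rw [← QuotientGroup.ker_mk' (Zs (i + 1)), ← Subgroup.map_eq_bot_iff, map_commutator, iter_map,
      MonoidHom.map_zpowers]
    refine degree_four_layer (T := T.map π) (C := (Zs i).map π) (π g) ?_ (map_mono hXT) (map_mono hAT)
      (by rw [← map_commutator]; exact map_mono hXA) ?_ ?_
    · rw [← commutator_eq_bot_iff_le_centralizer, ← map_commutator, Subgroup.map_eq_bot_iff,
        QuotientGroup.ker_mk']
      exact le_rfl
    · rw [← MonoidHom.map_zpowers, ← map_commutator, ← map_commutator, eq_bot_iff, ← Subgroup.map_bot π, ← hg.2]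
      exact map_mono (commutator_mono (commutator_mono (hZle i) le_rfl) le_rfl)
    · rw [← MonoidHom.map_zpowers, ← iter_map, hg.1, Subgroup.map_bot]
  suffices hall : ∀ i, ∃ X : Subgroup G, X.Normal ∧ X ≤ U ∧ ⁅X, A⁆ ≤ Zs i ∧ U ≤ X ⊔ V by
    obtain ⟨n, hn⟩ := exists_iter_eq_bot hTp ((zc_le A).trans hAT)
    obtain ⟨X, -, hXU, hXA, hX⟩ := hall n
    have hXZ : X ≤ zc A := (le_inf (hXU.trans hUT)
      (commutator_eq_bot_iff_le_centralizer.mp (le_bot_iff.mp (hXA.trans hn.le)))).trans hCA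
    exact hlt.not_ge (hX.trans (sup_le ((le_inf hXU hXZ).trans hZ) le_rfl))
  intro i
  induction i with
  | zero => exact ⟨U, hUn, le_rfl, (commutator_mono hUT le_rfl).trans hTA, le_sup_left⟩
  | succ i ih =>
    obtain ⟨X, hX, hXU, hXA, hXV⟩ := ih
    set X' := normalClosure (Cfsg.iterCommutator X (zpowers g) 4 : Set G)
    haveI := hX
    haveI := hZs (i + 1)
    have h4 := hlayer i X hX (hXU.trans hUT) hXA
    have hX'U : X' ≤ U := by
      refine normalClosure_le_normal (le_trans ?_ hXU)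
      have : ∀ j, Cfsg.iterCommutator X (zpowers g) j ≤ X := fun j => by
        induction j with
        | zero => exact le_rfl
        | succ j ihj => exact (commutator_mono ihj le_rfl).trans (commutator_le_left X _)
      exact this 4
    refine ⟨X', normalClosure_normal, hX'U, ?_, ?_⟩
    · set π := QuotientGroup.mk' (Zs (i + 1))
      haveI : (A.map π).Normal := Subgroup.Normal.map inferInstance π (QuotientGroup.mk'_surjective _)
      have hF : normalClosure (Cfsg.iterCommutator X (zpowers g) 4 : Set G) ≤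
          (centralizer (A.map π : Set (G ⧸ Zs (i + 1)))).comap π :=
        normalClosure_le_normal (show Cfsg.iterCommutator X (zpowers g) 4 ≤ _ by
          rw [← map_le_iff_le_comap, ← commutator_eq_bot_iff_le_centralizer, ← map_commutator,
            Subgroup.map_eq_bot_iff, QuotientGroup.ker_mk']
          exact h4)
      rw [← map_le_iff_le_comap, ← commutator_eq_bot_iff_le_centralizer, ← map_commutator,
        Subgroup.map_eq_bot_iff, QuotientGroup.ker_mk'] at hF
      exact hF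
    · rcases hsplit X' normalClosure_normal with h | h
      · exfalso
        exact hno (iter_le_of_le_sup g hXV ((le_inf ((subset_normalClosure (s := (Cfsg.iterCommutator X (zpowers g) 4 : Set G))).trans
          hX'U) subset_normalClosure).trans h))
      · exact h.trans (sup_le_sup_right inf_le_right V)

end Cfsg.Lib.KInf
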